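import Groth.Prelude.Def_SGA3b
import Mathlib.RingTheory.Finiteness.Descent
import Mathlib.RingTheory.LocalProperties.Basic
import Mathlib.RingTheory.Localization.Finiteness

/-!
Quasi-isotrivial groups finite modulo a nil ideal are finite.
-/

set_option autoImplicit false
set_option linter.style.haveILetI false
set_option maxHeartbeats 1000000
set_option synthInstance.maxHeartbeats 400000
universe u

open TensorProduct

namespace Groth.Agent.H21EtPt

/-- A quasi-isotrivial Hopf algebra finite modulo a nil ideal is finite. -/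
theorem finite_of_isQuasiIsotrivial {R : Type u} [CommRing R] (J : Ideal R) (hJ : ∀ x ∈ J, IsNilpotent x)
    (A : Type u) [CommRing A] [HopfAlgebra R A] (hA : SGA3b.IsQuasiIsotrivial R A)
    [Module.Finite (R ⧸ J) ((R ⧸ J) ⊗[R] A)] : Module.Finite R A := by
  obtain ⟨s, hs, h⟩ := hA
  refine Module.Finite.of_localizationSpan' (R := R) (M := A) s hs
    (Rₚ := fun r => Localization.Away r.1) (Mₚ := fun r => Localization.Away r.1 ⊗[R] A)
    (fun r => TensorProduct.mk R (Localization.Away r.1) A 1) fun r => ?_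
  obtain ⟨T, _, _, -, _, M, _, ⟨e⟩⟩ := h r.1 r.2
  let L := Localization.Away r.1
  suffices Module.Finite T (T ⊗[L] (L ⊗[R] A)) from
    Module.Finite.of_finite_tensorProduct_of_faithfullyFlat T
  rcases subsingleton_or_nontrivial T with hT | hT
  · haveI : Subsingleton (T ⊗[L] (L ⊗[R] A)) := Module.subsingleton T _
    infer_instance
  letI : Algebra R T := ((algebraMap L T).comp (algebraMap R L)).toAlgebra
  haveI : IsScalarTower R L T := IsScalarTower.of_algebraMap_eq' rfl
  let Q := T ⧸ J.map (algebraMap R T)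
  haveI : Nontrivial Q := Ideal.Quotient.nontrivial_iff.mpr fun htop => by
    obtain ⟨m, hm⟩ := Ideal.exists_maximal T
    have hle : J.map (algebraMap R T) ≤ m := Ideal.map_le_iff_le_comap.mpr fun x hx => by
      obtain ⟨k, hk⟩ := hJ x hx
      refine hm.isPrime.mem_of_pow_mem k ?_
      rw [← map_pow, hk, map_zero]
      exact zero_mem _
    exact hm.ne_top (top_le_iff.mp (htop ▸ hle))
  letI : Algebra (R ⧸ J) Q := (Ideal.quotientMap (J.map (algebraMap R T)) (algebraMap R T) Ideal.le_comap_map).toAlgebra
  haveI : IsScalarTower R (R ⧸ J) Q := IsScalarTower.of_algebraMap_eq' (RingHom.ext fun _ => rfl)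
  haveI hfin : Module.Finite Q (Q ⊗[R] A) :=
    Module.Finite.equiv (Algebra.TensorProduct.cancelBaseChange R (R ⧸ J) Q Q A).toLinearEquiv
  let b : Module.Basis M Q (Q ⊗[T] MonoidAlgebra T M) :=
    (MonoidAlgebra.basis M T).baseChange Q
  let ε : (Q ⊗[R] A) ≃ₗ[Q] (Q ⊗[T] MonoidAlgebra T M) :=
    (Algebra.TensorProduct.cancelBaseChange R L Q Q A).toLinearEquiv.symm.trans
      ((Algebra.TensorProduct.cancelBaseChange L T Q Q (L ⊗[R] A)).toLinearEquiv.symm.trans
        (TensorProduct.AlgebraTensorModule.congr (LinearEquiv.refl Q Q)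
          (AlgEquivClass.toAlgEquiv e).toLinearEquiv))
  haveI : Module.Finite Q (Q ⊗[T] MonoidAlgebra T M) := Module.Finite.equiv ε
  haveI : Finite M := Module.Finite.finite_basis b
  exact Module.Finite.equiv (AlgEquivClass.toAlgEquiv e).toLinearEquiv.symm

end Groth.Agent.H21EtPt
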