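import Groth.Agent.H21EtPt.Killed
import Groth.Agent.H21EtPt.NilFinite
import Groth.Agent.H21Diag.TransporterSub
import Groth.Agent.H21Mono.MultTypeFG
import Groth.Agent.H21Mono.Image
import Groth.Agent.H7Flat.ThickeningHom
import Groth.Agent.S2979
import Groth.Agent.S2973

/-!
Central finite smooth subgroups of multiplicative type lift along nil thickenings.
-/

set_option autoImplicit false
set_option linter.style.haveILetI false
set_option linter.unusedSectionVars false
set_option backward.isDefEq.respectTransparency false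
set_option synthInstance.maxHeartbeats 400000
set_option maxHeartbeats 1000000
universe u

open CategoryTheory CategoryTheory.Limits MonoidalCategory CartesianMonoidalCategory MonObj AlgebraicGeometry
open scoped TensorProduct

noncomputable section

namespace Groth.Agent.H21EtPt

theorem spec_mk_surjective {A : Type u} [CommRing A] (J : Ideal A) (hJ : ∀ x ∈ J, IsNilpotent x) :
    Surjective (Spec.map (CommRingCat.ofHom (Ideal.Quotient.mk J))) := ⟨fun p => by
  refine (show p ∈ Set.range (PrimeSpectrum.comap (Ideal.Quotient.mk J)) from ?_)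
  rw [range_comap_of_surjective _ _ Ideal.Quotient.mk_surjective, PrimeSpectrum.mem_zeroLocus, Ideal.mk_ker]
  intro x hx
  obtain ⟨k, hk⟩ := hJ x hx
  exact p.2.mem_of_pow_mem k (hk ▸ zero_mem _)⟩

theorem isMonHom_of_comp_mono {S : Scheme.{u}} {A B C : Over S} [GrpObj A] [GrpObj B] [GrpObj C] (f : A ⟶ B)
    (g : B ⟶ C) [IsMonHom g] [Mono g] (h : IsMonHom (f ≫ g)) : IsMonHom f :=
  H21Diag.isMonHom_of_mul f fun a b => by
    haveI := h
    rw [← cancel_mono g, Category.assoc, MonObj.mul_comp, MonObj.mul_comp, Category.assoc, Category.assoc]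

theorem flat_of_multTypeFT {S : Scheme.{u}} {H : Over S} [GrpObj H] (hH : SGA3x.IsMultTypeFT H) : Flat H.hom :=
  H21Mono.prop_of_locDS @Flat (fun T M _ => H21Diag.flat_DS T M) (H21Diag.isDiagLoc_of_isMultTypeFT hH)

variable {S S₀ : Scheme.{u}} (iS : S₀ ⟶ S) [IsClosedImmersion iS] [Surjective iS]

theorem etale_of_thickening (H : Over S) [Flat H.hom] [LocallyOfFinitePresentation H.hom]
    [h : FormallyUnramified (Red.bc iS H).hom] : Etale H.hom := by
  haveI := (H7Flat.formallyUnramified_iff_of_thickening (pullback.fst H.hom iS) iS (pullback.snd H.hom iS) H.hom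
    (IsPullback.of_hasPullback H.hom iS)).1 h
  exact Etale.of_formallyUnramified_of_flat H.hom

theorem isFinite_of_thickening (H : Over S) [IsAffineHom H.hom] [LocallyOfFiniteType H.hom]
    [h : IsFinite (Red.bc iS H).hom] : IsFinite H.hom := by
  haveI : IsClosedImmersion (pullback.fst H.hom iS) := MorphismProperty.pullback_fst _ _ inferInstance
  haveI : Surjective (pullback.fst H.hom iS) := MorphismProperty.pullback_fst _ _ inferInstance
  haveI := (H7Flat.universallyClosed_iff_of_thickening (pullback.fst H.hom iS) iS (Red.bc iS H).hom H.hom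
    pullback.condition).1 inferInstance
  exact (IsFinite.iff_isIntegralHom_and_locallyOfFiniteType _).mpr
    ⟨(IsIntegralHom.iff_universallyClosed_and_isAffineHom).mpr ⟨inferInstance, inferInstance⟩, inferInstance⟩

/-- Finite etale groups isomorphic over the closed subscheme are isomorphic, compatibly. -/
theorem exists_iso_lift {H H' : Over S} [GrpObj H] [GrpObj H'] [Flat H.hom] [LocallyOfFinitePresentation H.hom]
    [Flat H'.hom] [LocallyOfFinitePresentation H'.hom]
    (hk : ∀ t : S, ∃ (V : S.Opens) (n : ℕ), t ∈ V ∧ Killed H V n)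
    (hk' : ∀ t : S, ∃ (V : S.Opens) (n : ℕ), t ∈ V ∧ Killed H' V n)
    (v : Red.bc iS H' ⟶ Red.bc iS H) (w : Red.bc iS H ⟶ Red.bc iS H') [IsMonHom v] [IsMonHom w]
    (hvw : v ≫ w = 𝟙 _) (hwv : w ≫ v = 𝟙 _)
    (hcomm : ∀ (X : Over S₀) (a b : X ⟶ Red.bc iS H), a * b = b * a) :
    ∃ φ : H' ≅ H, IsMonHom φ.hom ∧ (Over.pullback iS).map φ.hom = v := by
  have hcomm' : ∀ (X : Over S₀) (a b : X ⟶ Red.bc iS H'), a * b = b * a := fun X a b => by
    haveI : Mono v := mono_of_mono_fac hvw
    rw [← cancel_mono v, MonObj.mul_comp, MonObj.mul_comp, hcomm]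
  obtain ⟨f, hf, hfv, -⟩ := exists_hom_lift iS v hk' fun X x g => hcomm X _ g
  obtain ⟨g, hg, hgw, -⟩ := exists_hom_lift iS w hk fun X x g => hcomm' X _ g
  haveI := hf
  haveI := hg
  obtain ⟨i₁, -, -, -, u₁⟩ := exists_hom_lift iS (𝟙 (Red.bc iS H')) hk' fun X x g => hcomm' X _ g
  obtain ⟨i₂, -, -, -, u₂⟩ := exists_hom_lift iS (𝟙 (Red.bc iS H)) hk fun X x g => hcomm X _ g
  refine ⟨⟨f, g, ?_, ?_⟩, hf, hfv⟩
  · rw [u₁ (f ≫ g) inferInstance (by rw [Functor.map_comp, hfv, hgw, hvw]),
      u₁ (𝟙 H') inferInstance ((Over.pullback iS).map_id H')]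
  · rw [u₂ (g ≫ f) inferInstance (by rw [Functor.map_comp, hfv, hgw, hwv]),
      u₂ (𝟙 H) inferInstance ((Over.pullback iS).map_id H)]

end Groth.Agent.H21EtPt
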