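import Groth.Agent.H21EtPt.PowLift
import Groth.Agent.H21Diag.Conj

/-!
Central homomorphisms from groups locally killed by invertible integers lift uniquely along surjective closed
immersions of the base.
-/

set_option autoImplicit false
set_option linter.style.haveILetI false
set_option linter.unusedSectionVars false
set_option backward.isDefEq.respectTransparency false
set_option synthInstance.maxHeartbeats 400000
set_option maxHeartbeats 1000000
universe u

open CategoryTheory CategoryTheory.Limits MonoidalCategory CartesianMonoidalCategory MonObj GrpObj AlgebraicGeometry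

noncomputable section

namespace Groth.Agent.H21EtPt

variable {S : Scheme.{u}}

theorem pow_comp {X A B : Over S} [GrpObj A] [GrpObj B] (f : X ⟶ A) (g : A ⟶ B) [IsMonHom g] (n : ℕ) :
    (f ^ n) ≫ g = (f ≫ g) ^ n := by
  induction n with
  | zero => rw [pow_zero, pow_zero, MonObj.one_comp]
  | succ k ih => rw [pow_succ, pow_succ, MonObj.mul_comp, ih]

/-- The part of an object over an open of the base. -/
abbrev piece (X : Over S) (V : S.Opens) : Over S := Over.mk ((X.hom ⁻¹ᵁ V).ι ≫ X.hom)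

/-- The inclusion of the part over an open of the base. -/
abbrev pieceIncl (X : Over S) (V : S.Opens) : piece X V ⟶ X := Over.homMk (X.hom ⁻¹ᵁ V).ι rfl

/-- `H` is killed over `V` by `n`, which is invertible there. -/
def Killed (H : Over S) [GrpObj H] (V : S.Opens) (n : ℕ) : Prop :=
  (∀ s ∈ V, (n : S.residueField s) ≠ 0) ∧ ((pieceIncl H V) ^ n = 1)

theorem Killed.pow_eq_one {H : Over S} [GrpObj H] {V : S.Opens} {n : ℕ} (hk : Killed H V n) {X : Over S}
    (x : X ⟶ H) (hx : ∀ z, X.hom z ∈ V) : x ^ n = 1 := by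
  have hr : Set.range x.left ⊆ Set.range (H.hom ⁻¹ᵁ V).ι := by
    rintro _ ⟨z, rfl⟩
    rw [Scheme.Opens.range_ι]
    change H.hom (x.left z) ∈ V
    rw [← Scheme.Hom.comp_apply, Over.w x]
    exact hx z
  let k : X ⟶ piece H V := Over.homMk (IsOpenImmersion.lift (H.hom ⁻¹ᵁ V).ι x.left hr) (by
    change _ ≫ (H.hom ⁻¹ᵁ V).ι ≫ H.hom = X.hom
    rw [IsOpenImmersion.lift_fac_assoc, Over.w x])
  have hxk : x = k ≫ pieceIncl H V := by ext : 1; exact (IsOpenImmersion.lift_fac _ _ hr).symm
  rw [hxk, ← MonObj.comp_pow, hk.2, MonObj.comp_one]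

theorem Killed.ne_zero {H : Over S} [GrpObj H] {V : S.Opens} {n : ℕ} (hk : Killed H V n) {X : Over S}
    (hX : ∀ z, X.hom z ∈ V) (z : X.left) : (n : X.left.residueField z) ≠ 0 := fun h => by
  refine hk.1 _ (hX z) ?_
  rw [← map_natCast (X.hom.residueFieldMap z).hom n] at h
  exact (map_eq_zero _).mp h

variable {S₀ : Scheme.{u}} (iS : S₀ ⟶ S)

/-- The counit of base change. -/
abbrev eps (X : Over S) : (Over.map iS).obj (Red.bc iS X) ⟶ X := (Over.mapPullbackAdj iS).counit.app X

theorem isClosedImmersion_eps [IsClosedImmersion iS] (X : Over S) : IsClosedImmersion (eps iS X).left := by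
  rw [show (eps iS X).left = pullback.fst X.hom iS by simp [eps]]
  exact MorphismProperty.pullback_fst _ _ inferInstance

theorem surjective_eps [Surjective iS] (X : Over S) : Surjective (eps iS X).left := by
  rw [show (eps iS X).left = pullback.fst X.hom iS by simp [eps]]
  exact MorphismProperty.pullback_fst _ _ inferInstance

theorem eps_comp {X Y : Over S} (v : X ⟶ Y) :
    eps iS X ≫ v = (H21Diag.bcEquiv iS Y (Red.bc iS X)).symm ((Over.pullback iS).map v) := by
  refine Eq.trans ?_ ((Over.mapPullbackAdj iS).homEquiv_counit _ _ _).symm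
  exact ((Over.mapPullbackAdj iS).counit.naturality v).symm

variable {G H : Over S} [GrpObj G] [GrpObj H] (u₀ : Red.bc iS H ⟶ Red.bc iS G)

/-- The given homomorphism as a point of `G`. -/
abbrev pt₀ : (Over.map iS).obj (Red.bc iS H) ⟶ G := (H21Diag.bcEquiv iS G (Red.bc iS H)).symm u₀

theorem central_pt₀ (hc₀ : ∀ (X : Over S₀) (x : X ⟶ Red.bc iS H) (g : X ⟶ Red.bc iS G), (x ≫ u₀) * g = g * (x ≫ u₀)) :
    Central (pt₀ iS u₀) := fun W w y => by
  let w' : W.left ⟶ (Red.bc iS H).left := w.left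
  let W₀ : Over S₀ := Over.mk (w' ≫ (Red.bc iS H).hom)
  let x : W₀ ⟶ Red.bc iS H := Over.homMk w' rfl
  let φ : (Over.map iS).obj W₀ ≅ W := Over.isoMk (Iso.refl _) (by
    change 𝟙 _ ≫ W.hom = (w' ≫ (Red.bc iS H).hom) ≫ iS
    rw [Category.id_comp, Category.assoc, ← Over.w w]
    rfl)
  have h := congrArg (H21Diag.bcEquiv iS G W₀).symm (hc₀ W₀ x (H21Diag.bcEquiv iS G W₀ (φ.hom ≫ y)))
  rw [H21Diag.bcEquiv_symm_mul, H21Diag.bcEquiv_symm_mul, Equiv.symm_apply_apply, bcEquiv_symm_comp' iS G x u₀] at h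
  have hw : φ.hom ≫ w = (Over.map iS).map x := by ext : 1; exact Category.id_comp _
  rw [← hw, Category.assoc, ← MonObj.comp_mul, ← MonObj.comp_mul] at h
  exact (cancel_epi φ.hom).mp h

theorem pt₀_map {X : Over S} (x : X ⟶ H) :
    (Over.map iS).map ((Over.pullback iS).map x) ≫ pt₀ iS u₀ =
      (H21Diag.bcEquiv iS G (Red.bc iS X)).symm ((Over.pullback iS).map x ≫ u₀) :=
  (bcEquiv_symm_comp' iS G _ u₀).symm

theorem pt₀_pow [IsMonHom u₀] {X : Over S} (x : X ⟶ H) (n : ℕ) (hx : x ^ n = 1) :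
    ((Over.map iS).map ((Over.pullback iS).map x) ≫ pt₀ iS u₀) ^ n = 1 := by
  let Φ : (Red.bc iS X ⟶ Red.bc iS G) →* ((Over.map iS).obj (Red.bc iS X) ⟶ G) :=
    MonoidHom.mk' (H21Diag.bcEquiv iS G _).symm (H21Diag.bcEquiv_symm_mul iS G _)
  have e : ((Over.pullback iS).map x) ^ n = (1 : Red.bc iS X ⟶ Red.bc iS H) := by
    refine (map_pow (Functor.homMonoidHom (Over.pullback iS) (X := X) (M := H)) x n).symm.trans ?_
    rw [hx]
    exact map_one _
  rw [pt₀_map]
  change (Φ ((Over.pullback iS).map x ≫ u₀)) ^ n = 1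
  rw [← map_pow, ← pow_comp, e, MonObj.one_comp, map_one]

variable [Flat G.hom] [LocallyOfFinitePresentation G.hom] [IsClosedImmersion iS] [Surjective iS] [IsMonHom u₀]

/-- Two points agreeing modulo the ideal and locally killed by the same invertible exponents agree. -/
theorem ext_of_killed (hk : ∀ t : S, ∃ (V : S.Opens) (n : ℕ), t ∈ V ∧ Killed H V n) {X : Over S} {a b : X ⟶ G}
    (hc : Central (eps iS X ≫ a)) (h : eps iS X ≫ a = eps iS X ≫ b)
    (ha : ∀ (V : S.Opens) (n : ℕ), Killed H V n → (pieceIncl X V ≫ a) ^ n = 1)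
    (hb : ∀ (V : S.Opens) (n : ℕ), Killed H V n → (pieceIncl X V ≫ b) ^ n = 1) : a = b := by
  refine Over.OverMorphism.ext (Scheme.hom_ext_of_forall _ _ fun z => ?_)
  obtain ⟨V, n, hz, hV⟩ := hk (X.hom z)
  refine ⟨X.hom ⁻¹ᵁ V, hz, ?_⟩
  haveI := isClosedImmersion_eps iS (piece X V)
  haveI := surjective_eps iS (piece X V)
  have hnat : eps iS (piece X V) ≫ pieceIncl X V = (Over.map iS).map ((Over.pullback iS).map (pieceIncl X V)) ≫ eps iS X :=
    ((Over.mapPullbackAdj iS).counit.naturality _).symm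
  have key : pieceIncl X V ≫ a = pieceIncl X V ≫ b :=
    lift_ext n (eps iS (piece X V)) (fun t => hV.ne_zero (X := piece X V) (fun z => z.2) t) (ha V n hV) (hb V n hV)
      (by rw [← Category.assoc, hnat, Category.assoc]; exact hc.comp _)
      (by rw [← Category.assoc, hnat, Category.assoc, h, ← Category.assoc, ← hnat, Category.assoc])
  exact congrArg (fun w => w.left) key

/-- The lift as a morphism. -/
theorem exists_lift_glue (hk : ∀ t : S, ∃ (V : S.Opens) (n : ℕ), t ∈ V ∧ Killed H V n)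
    (hc₀ : ∀ (X : Over S₀) (x : X ⟶ Red.bc iS H) (g : X ⟶ Red.bc iS G), (x ≫ u₀) * g = g * (x ≫ u₀)) :
    ∃ u : H ⟶ G, eps iS H ≫ u = pt₀ iS u₀ ∧
      ∀ (X : Over S) (x : X ⟶ H) (V : S.Opens) (n : ℕ), Killed H V n → (pieceIncl X V ≫ x ≫ u) ^ n = 1 := by
  choose V n hV hK using hk
  have hC := central_pt₀ iS u₀ hc₀
  let j : ∀ t, piece H (V t) ⟶ H := fun t => pieceIncl H (V t)
  have hlift : ∀ t, ∃ x : piece H (V t) ⟶ G, x ^ n t = 1 ∧
      eps iS (piece H (V t)) ≫ x = (Over.map iS).map ((Over.pullback iS).map (j t)) ≫ pt₀ iS u₀ := fun t => by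
    haveI := isClosedImmersion_eps iS (piece H (V t))
    haveI := surjective_eps iS (piece H (V t))
    exact exists_lift (n t) (eps iS (piece H (V t))) (fun z => (hK t).ne_zero (X := piece H (V t)) (fun z => z.2) z)
      (hC.comp _) (pt₀_pow iS u₀ (j t) (n t) (hK t).2)
  choose xl hxn hx0 using hlift
  have compat : ∀ (a b : S) {P : Over S} (p : P ⟶ piece H (V a)) (q : P ⟶ piece H (V b)),
      p ≫ j a = q ≫ j b → p ≫ xl a = q ≫ xl b := by
    intro a b P p q hpq
    haveI := isClosedImmersion_eps iS P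
    haveI := surjective_eps iS P
    have hP : ∀ (t : S) (r : P ⟶ piece H (V t)) (z : P.left), P.hom z ∈ V t := fun t r z => by
      rw [← Over.w r, Scheme.Hom.comp_apply]
      exact (r.left z).2
    have h0 : ∀ (t : S) (r : P ⟶ piece H (V t)), eps iS P ≫ r ≫ xl t =
        (Over.map iS).map ((Over.pullback iS).map (r ≫ j t)) ≫ pt₀ iS u₀ := fun t r => by
      rw [← Category.assoc, show eps iS P ≫ r = (Over.map iS).map ((Over.pullback iS).map r) ≫ eps iS _ from
        ((Over.mapPullbackAdj iS).counit.naturality r).symm]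
      change ((Over.map iS).map ((Over.pullback iS).map r) ≫ eps iS (piece H (V t))) ≫ xl t = _
      rw [Category.assoc, hx0, Functor.map_comp, Functor.map_comp, Category.assoc]
    refine lift_ext (n a * n b) (eps iS P) (fun z => ?_) ?_ ?_ ?_ ?_
    · rw [Nat.cast_mul]
      exact mul_ne_zero ((hK a).ne_zero (hP a p) z) ((hK b).ne_zero (hP b q) z)
    · rw [pow_mul, ← MonObj.comp_pow, hxn, MonObj.comp_one, one_pow]
    · rw [mul_comm, pow_mul, ← MonObj.comp_pow, hxn, MonObj.comp_one, one_pow]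
    · rw [h0]; exact hC.comp _
    · rw [h0, h0, hpq]
  let U : S → H.left.Opens := fun t => H.hom ⁻¹ᵁ V t
  have hU : TopologicalSpace.IsOpenCover U := TopologicalSpace.IsOpenCover.mk (top_le_iff.mp fun z _ =>
    TopologicalSpace.Opens.mem_iSup.mpr ⟨H.hom z, hV _⟩)
  let 𝒰 := H.left.openCoverOfIsOpenCover U hU
  have hglue : ∀ a b, pullback.fst (𝒰.f a) (𝒰.f b) ≫ (xl a).left = pullback.snd _ _ ≫ (xl b).left := fun a b => by
    let P : Over S := Over.mk (pullback.fst (𝒰.f a) (𝒰.f b) ≫ (piece H (V a)).hom)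
    let p : P ⟶ piece H (V a) := Over.homMk (pullback.fst (𝒰.f a) (𝒰.f b)) rfl
    let q : P ⟶ piece H (V b) := Over.homMk (pullback.snd (𝒰.f a) (𝒰.f b)) (by
      change pullback.snd _ _ ≫ 𝒰.f b ≫ H.hom = pullback.fst _ _ ≫ 𝒰.f a ≫ H.hom
      rw [pullback.condition_assoc])
    exact congrArg (fun w => w.left) (compat a b p q (by ext : 1; exact pullback.condition))
  let ul := 𝒰.glueMorphisms (fun t => (xl t).left) hglue
  have hul : ∀ t, (U t).ι ≫ ul = (xl t).left := fun t => 𝒰.ι_glueMorphisms _ hglue t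
  let u : H ⟶ G := Over.homMk ul (𝒰.hom_ext _ _ fun t => by
    change (U t).ι ≫ ul ≫ G.hom = (U t).ι ≫ H.hom
    rw [← Category.assoc, hul]
    exact Over.w (xl t))
  have hu : ∀ t, j t ≫ u = xl t := fun t => by ext : 1; exact hul t
  have hloc : ∀ {X : Over S} (x : X ⟶ H) (t : S), ∃ k : piece X (V t) ⟶ piece H (V t),
      k ≫ j t = pieceIncl X (V t) ≫ x := fun {X} x t => by
    have hr : Set.range (pieceIncl X (V t) ≫ x).left ⊆ Set.range (H.hom ⁻¹ᵁ V t).ι := by
      rintro _ ⟨z, rfl⟩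
      rw [Scheme.Opens.range_ι]
      change H.hom ((pieceIncl X (V t) ≫ x).left z) ∈ V t
      rw [← Scheme.Hom.comp_apply, Over.w]
      exact z.2
    refine ⟨Over.homMk (IsOpenImmersion.lift (H.hom ⁻¹ᵁ V t).ι _ hr) (by
      change _ ≫ (H.hom ⁻¹ᵁ V t).ι ≫ H.hom = _
      rw [IsOpenImmersion.lift_fac_assoc, Over.w]), ?_⟩
    ext : 1
    exact IsOpenImmersion.lift_fac _ _ hr
  have hεu : eps iS H ≫ u = pt₀ iS u₀ := by
    refine Over.OverMorphism.ext (Scheme.hom_ext_of_forall _ _ fun z => ?_)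
    let t := H.hom ((eps iS H).left z)
    let J := (Over.map iS).map ((Over.pullback iS).map (j t))
    have hsq : IsPullback (pullback.fst (piece H (V t)).hom iS) ((Over.pullback iS).map (j t)).left (j t).left
        (pullback.fst H.hom iS) := by
      refine (IsPullback.of_bot (v₂₁ := pullback.snd H.hom iS) (v₂₂ := H.hom) (h₃₁ := iS) ?_ ?_
        (IsPullback.of_hasPullback H.hom iS))
      · rw [show ((Over.pullback iS).map (j t)).left ≫ pullback.snd H.hom iS = pullback.snd _ iS from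
          Over.w ((Over.pullback iS).map (j t)), Over.w (j t)]
        exact IsPullback.of_hasPullback (piece H (V t)).hom iS
      · simp
    haveI : IsOpenImmersion (j t).left := inferInstanceAs (IsOpenImmersion (H.hom ⁻¹ᵁ V t).ι)
    haveI : IsOpenImmersion ((Over.pullback iS).map (j t)).left :=
      MorphismProperty.of_isPullback hsq (inferInstance : IsOpenImmersion (j t).left)
    haveI : IsOpenImmersion J.left := inferInstanceAs (IsOpenImmersion ((Over.pullback iS).map (j t)).left)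
    have hz : z ∈ Set.range J.left := by
      have hmem : (eps iS H).left z ∈ Set.range (j t).left := by
        change (eps iS H).left z ∈ Set.range (H.hom ⁻¹ᵁ V t).ι
        rw [Scheme.Opens.range_ι]
        exact hV t
      obtain ⟨w, hw⟩ := hmem
      have hw' : (j t).left w = pullback.fst H.hom iS z := by
        rw [hw, show (eps iS H).left = pullback.fst H.hom iS by simp [eps]]
        rfl
      obtain ⟨q, -, hq⟩ := Scheme.exists_preimage_of_isPullback hsq w z hw'
      exact ⟨q, hq⟩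
    refine ⟨J.left.opensRange, hz, ?_⟩
    have key : J ≫ eps iS H ≫ u = J ≫ pt₀ iS u₀ := by
      rw [← Category.assoc, show J ≫ eps iS H = eps iS (piece H (V t)) ≫ j t from
        (Over.mapPullbackAdj iS).counit.naturality (j t), Category.assoc, hu, hx0]
    rw [← Scheme.Hom.isoOpensRange_inv_comp J.left, Category.assoc, Category.assoc]
    exact congrArg (J.left.isoOpensRange.inv ≫ ·) (congrArg (fun w => w.left) key)
  have heps : ∀ {P : Over S} (y : P ⟶ H), eps iS P ≫ y ≫ u =
      (Over.map iS).map ((Over.pullback iS).map y) ≫ pt₀ iS u₀ := fun {P} y => by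
    rw [← Category.assoc, show eps iS P ≫ y = (Over.map iS).map ((Over.pullback iS).map y) ≫ eps iS H from
      ((Over.mapPullbackAdj iS).counit.naturality y).symm, Category.assoc, hεu]
  refine ⟨u, hεu, fun X x W m hWm => ?_⟩
  let P := piece X W
  let y : P ⟶ H := pieceIncl X W ≫ x
  have hy : y ^ m = 1 := hWm.pow_eq_one y fun z => by exact z.2
  rw [show pieceIncl X W ≫ x ≫ u = y ≫ u from (Category.assoc _ _ _).symm]
  refine Over.OverMorphism.ext (Scheme.hom_ext_of_forall _ _ fun z => ?_)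
  let t := P.hom z
  refine ⟨P.hom ⁻¹ᵁ V t, hV t, ?_⟩
  obtain ⟨k, hk'⟩ := hloc y t
  haveI := isClosedImmersion_eps iS (piece P (V t))
  haveI := surjective_eps iS (piece P (V t))
  let r : piece P (V t) ⟶ H := pieceIncl P (V t) ≫ y
  have hr : r ^ m = 1 := by rw [← MonObj.comp_pow, hy, MonObj.comp_one]
  have hrn : (r ≫ u) ^ n t = 1 := by
    rw [show r = k ≫ j t from hk'.symm, Category.assoc, hu, ← MonObj.comp_pow, hxn, MonObj.comp_one]
  have e0 : eps iS (piece P (V t)) ≫ (r ≫ u) ^ m = 1 := by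
    rw [MonObj.comp_pow, heps, pt₀_pow iS u₀ r m hr]
  have key : (r ≫ u) ^ m = 1 :=
    lift_ext (n t) (eps iS (piece P (V t))) (fun w => (hK t).ne_zero (X := piece P (V t)) (fun w => w.2) w)
      (by rw [← pow_mul, mul_comm, pow_mul, hrn, one_pow]) (one_pow _)
      (by rw [e0]; intro W' w' y'; rw [MonObj.comp_one, _root_.one_mul, _root_.mul_one])
      (by rw [e0, MonObj.comp_one])
  rw [show r ≫ u = pieceIncl P (V t) ≫ y ≫ u from Category.assoc _ _ _, ← MonObj.comp_pow] at key
  exact congrArg (fun w => w.left) (key.trans (MonObj.comp_one (pieceIncl P (V t))).symm)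

theorem eps_natural {X Y : Over S} (v : X ⟶ Y) :
    eps iS X ≫ v = (Over.map iS).map ((Over.pullback iS).map v) ≫ eps iS Y :=
  ((Over.mapPullbackAdj iS).counit.naturality v).symm

theorem pieceIncl_comp_pow {V : S.Opens} {n : ℕ} (hV : Killed H V n) {X : Over S} (x : X ⟶ H) :
    (pieceIncl X V ≫ x) ^ n = 1 :=
  hV.pow_eq_one (X := piece X V) _ fun z => by exact z.2

/-- **Central homomorphisms lift uniquely**, remain central, from groups locally killed by invertible exponents. -/
theorem exists_hom_lift (hk : ∀ t : S, ∃ (V : S.Opens) (n : ℕ), t ∈ V ∧ Killed H V n)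
    (hc₀ : ∀ (X : Over S₀) (x : X ⟶ Red.bc iS H) (g : X ⟶ Red.bc iS G), (x ≫ u₀) * g = g * (x ≫ u₀)) :
    ∃ u : H ⟶ G, IsMonHom u ∧ (Over.pullback iS).map u = u₀ ∧
      (∀ (X : Over S) (x : X ⟶ H) (g : X ⟶ G), (x ≫ u) * g = g * (x ≫ u)) ∧
      ∀ u' : H ⟶ G, IsMonHom u' → (Over.pullback iS).map u' = u₀ → u' = u := by
  obtain ⟨u, hεu, hpow⟩ := exists_lift_glue iS u₀ hk hc₀
  have hC := central_pt₀ iS u₀ hc₀
  have heps : ∀ {X : Over S} (x : X ⟶ H), eps iS X ≫ x ≫ u =
      (Over.map iS).map ((Over.pullback iS).map x) ≫ pt₀ iS u₀ := fun {X} x => by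
    rw [← Category.assoc, eps_natural, Category.assoc, hεu]
  have hcent : ∀ (X : Over S) (x : X ⟶ H) (g : X ⟶ G), (x ≫ u) * g = g * (x ≫ u) := fun X x g => by
    have hh : ∀ (V : S.Opens) (m : ℕ), Killed H V m → (pieceIncl X V ≫ (g * (x ≫ u) * g⁻¹)) ^ m = 1 :=
      fun V m hV => by
        rw [MonObj.comp_mul, MonObj.comp_mul, GrpObj.comp_inv, conj_pow, hpow X x V m hV, _root_.mul_one,
          mul_inv_cancel]
    have e : g * (x ≫ u) * g⁻¹ = x ≫ u := by
      refine (ext_of_killed iS hk ?_ ?_ (fun V m hV => hpow X x V m hV) hh).symm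
      · rw [heps]; exact hC.comp _
      · rw [MonObj.comp_mul, MonObj.comp_mul, GrpObj.comp_inv, heps, ← hC _ _ (eps iS X ≫ g), mul_inv_cancel_right]
    exact (mul_inv_eq_iff_eq_mul.mp e).symm
  haveI hu : IsMonHom u := by
    refine H21Diag.isMonHom_of_mul _ fun {X} a b => ?_
    have hab : eps iS X ≫ (a * b) ≫ u = eps iS X ≫ ((a ≫ u) * (b ≫ u)) := by
      rw [MonObj.comp_mul, heps, heps, heps, pt₀_map, pt₀_map, pt₀_map, ← H21Diag.bcEquiv_symm_mul,
        ← MonObj.mul_comp]
      refine congrArg _ (congrArg (· ≫ u₀) ?_)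
      exact map_mul (Functor.homMonoidHom (Over.pullback iS) (X := X) (M := H)) a b
    refine ext_of_killed iS hk ?_ hab (fun V m hV => hpow X (a * b) V m hV) (fun V m hV => ?_)
    · rw [heps]; exact hC.comp _
    · have hcomm : Commute (pieceIncl X V ≫ a ≫ u) (pieceIncl X V ≫ b ≫ u) := by
        rw [← Category.assoc, ← Category.assoc]
        exact hcent _ _ _
      rw [MonObj.comp_mul, hcomm.mul_pow, hpow X a V m hV, hpow X b V m hV, _root_.mul_one]
  have hFu : (Over.pullback iS).map u = u₀ := by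
    apply (H21Diag.bcEquiv iS G (Red.bc iS H)).symm.injective
    rw [← eps_comp, hεu]
  refine ⟨u, hu, hFu, hcent, fun u' hu' hF' => ?_⟩
  have h : eps iS H ≫ u' = eps iS H ≫ u := by rw [eps_comp iS u', eps_comp iS u, hF', hFu]
  refine (ext_of_killed iS hk ?_ h.symm (fun V m hV => ?_) (fun V m hV => ?_)).symm
  · rw [hεu]; exact hC
  · simpa using hpow H (𝟙 H) V m hV
  · rw [← pow_comp, hV.2, MonObj.one_comp]

end Groth.Agent.H21EtPt
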