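import Groth.Agent.H21EtPt.PowLift
import Groth.Agent.H17.LocusBC
import Groth.Agent.H19Grp.ClopenTrivial
import Groth.Agent.H19Grp.GrpdSep

/-!
Points of finite order near the centre are central when the fibres of the group are connected.
-/

set_option autoImplicit false
set_option linter.style.haveILetI false
set_option linter.unusedSectionVars false
set_option backward.isDefEq.respectTransparency false
set_option synthInstance.maxHeartbeats 400000
set_option maxHeartbeats 1000000
universe u

open CategoryTheory CategoryTheory.Limits MonoidalCategory CartesianMonoidalCategory MonObj GrpObj AlgebraicGeometry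

noncomputable section

namespace Groth.Agent.H21EtPt

variable {S : Scheme.{u}} {G : Over S} [GrpObj G]

/-- The set where two morphisms agree as field-valued points. -/
def agree {X Y : Scheme.{u}} (a b : X ⟶ Y) : Set X :=
  {z | X.fromSpecResidueField z ≫ a = X.fromSpecResidueField z ≫ b}

theorem epi_specMap_field {K L : CommRingCat.{u}} (hK : IsField K) (hL : IsField L) (φ : K ⟶ L) :
    Epi (Spec.map φ) := by
  letI := hK.toField
  letI := hL.toField
  haveI : Surjective (Spec.map φ) := ⟨fun q => ⟨IsLocalRing.closedPoint L, Subsingleton.elim (α := PrimeSpectrum K) _ _⟩⟩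
  haveI : Flat (Spec.map φ) := by
    refine (HasRingHomProperty.Spec_iff (P := @Flat)).mpr ?_
    letI := φ.hom.toAlgebra
    rw [show φ.hom = algebraMap K L from rfl, RingHom.flat_algebraMap_iff]
    infer_instance
  exact Flat.epi_of_flat_of_surjective (Spec.map φ)

/-- Two morphisms agreeing as field-valued points factor through the diagonal there. -/
theorem agree_eq {X Y Z : Scheme.{u}} (π : Y ⟶ Z) {a b : X ⟶ Y} (h : a ≫ π = b ≫ π) :
    agree a b = pullback.lift a b h ⁻¹' Set.range (pullback.diagonal π) := by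
  ext z
  let j := X.fromSpecResidueField z
  let l := pullback.lift a b h
  refine ⟨fun hz => ?_, fun hz => ?_⟩
  · have hl : j ≫ l = (j ≫ a) ≫ pullback.diagonal π := by
      refine pullback.hom_ext ?_ ?_
      · rw [Category.assoc, Category.assoc, pullback.lift_fst, pullback.diagonal_fst, Category.comp_id]
      · rw [Category.assoc, Category.assoc, pullback.lift_snd, pullback.diagonal_snd, Category.comp_id]
        exact hz.symm
    have hj : j (IsLocalRing.closedPoint _) = z := X.fromSpecResidueField_apply z _
    refine ⟨(j ≫ a) (IsLocalRing.closedPoint _), ?_⟩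
    rw [← Scheme.Hom.comp_apply, ← hl, Scheme.Hom.comp_apply, hj]
  · obtain ⟨y, hy⟩ := hz
    have hr : Set.range (j ≫ l) ⊆ Set.range (pullback.diagonal π) := by
      rintro _ ⟨p, rfl⟩
      refine ⟨y, hy.trans ?_⟩
      rw [Scheme.Hom.comp_apply, show j p = z from X.fromSpecResidueField_apply z p]
    let d := pullback.diagonal π
    obtain ⟨w, -, hw⟩ := Scheme.Pullback.exists_preimage_pullback (f := d) (g := j ≫ l) y
      (IsLocalRing.closedPoint _) (by
        rw [Scheme.Hom.comp_apply, show j _ = z from X.fromSpecResidueField_apply z _]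
        exact hy)
    let P := pullback d (j ≫ l)
    let r : Spec (P.residueField w) ⟶ Spec (X.residueField z) := P.fromSpecResidueField w ≫ pullback.snd d (j ≫ l)
    haveI : Epi r := by
      rw [← Spec.map_preimage r]
      exact epi_specMap_field (Field.toIsField _) (Field.toIsField _) _
    have hm : (P.fromSpecResidueField w ≫ pullback.fst d (j ≫ l)) ≫ d = r ≫ j ≫ l := by
      rw [Category.assoc, pullback.condition, Category.assoc]
    have ea := congrArg (· ≫ pullback.fst π π) hm
    have eb := congrArg (· ≫ pullback.snd π π) hm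
    simp only [Category.assoc, d, l, pullback.diagonal_fst, pullback.diagonal_snd, Category.comp_id,
      pullback.lift_fst, pullback.lift_snd] at ea eb
    exact (cancel_epi r).mp (ea.symm.trans eb)

theorem preimage_agree {X' X Y : Scheme.{u}} (t : X' ⟶ X) (a b : X ⟶ Y) : t ⁻¹' agree a b = agree (t ≫ a) (t ≫ b) := by
  ext z
  change X.fromSpecResidueField (t z) ≫ a = _ ↔ X'.fromSpecResidueField z ≫ t ≫ a = X'.fromSpecResidueField z ≫ t ≫ b
  rw [← Category.assoc _ t a, ← Category.assoc _ t b, ← Scheme.Hom.SpecMap_residueFieldMap_fromSpecResidueField t z,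
    Category.assoc, Category.assoc]
  refine ⟨fun e => congrArg (Spec.map (t.residueFieldMap z) ≫ ·) e, fun e => ?_⟩
  haveI := epi_specMap_field (Field.toIsField _) (Field.toIsField _) (t.residueFieldMap z)
  exact (cancel_epi _).mp e

variable (n : ℕ)

/-- The locus where the power map is etale is stable under conjugation. -/
theorem conj_mem_powLocus [Flat G.hom] [LocallyOfFinitePresentation G.hom] {X : Over S} (x g : X ⟶ G) (t : X.left)
    (hx : x.left t ∈ powLocus G n) : (g * x * g⁻¹).left t ∈ powLocus G n := by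
  let f : G ⟶ G := (𝟙 G : G ⟶ G) ^ n
  let K : Type u := X.left.residueField t
  let q := X.left.fromSpecResidueField t
  let p : Spec (CommRingCat.of K) ⟶ S := q ≫ X.hom
  let j : Over.mk p ⟶ X := Over.homMk q rfl
  let F := Over.pullback p
  let GK := Red.bc p G
  letI : GrpObj GK := Functor.grpObjObj
  let O : Over (Spec (CommRingCat.of K)) := 𝟙_ _
  let e : (Over.map p).obj O ⟶ Over.mk p := Over.homMk (𝟙 _) rfl
  let pt : (Over.mk p ⟶ G) → (O ⟶ GK) := fun y => H21Diag.bcEquiv p G O (e ≫ y)
  let xK := pt (j ≫ x)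
  let gK := pt (j ≫ g)
  let yK := pt (j ≫ (g * x * g⁻¹))
  let c : GK ≅ GK :=
    { hom := (toUnit GK ≫ gK) * 𝟙 GK * (toUnit GK ≫ gK)⁻¹
      inv := (toUnit GK ≫ gK)⁻¹ * 𝟙 GK * (toUnit GK ≫ gK)
      hom_inv_id := by
        simp only [MonObj.comp_mul, GrpObj.comp_inv, Category.comp_id]
        rw [← Category.assoc, toUnit_unique (_ ≫ toUnit GK) (toUnit GK)]
        group
      inv_hom_id := by
        simp only [MonObj.comp_mul, GrpObj.comp_inv, Category.comp_id]
        rw [← Category.assoc, toUnit_unique (_ ≫ toUnit GK) (toUnit GK)]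
        group }
  have hF : F.map f = (𝟙 GK : GK ⟶ GK) ^ n := by
    refine (map_pow (Functor.homMonoidHom F (X := G) (M := G)) (𝟙 G) n).trans ?_
    show (F.map (𝟙 G)) ^ n = _
    rw [F.map_id]
  have hcp : F.map f ≫ c.hom = c.hom ≫ F.map f := by
    rw [hF, MonObj.comp_pow, Category.comp_id]
    change _ ≫ ((toUnit GK ≫ gK) * 𝟙 GK * (toUnit GK ≫ gK)⁻¹) = ((toUnit GK ≫ gK) * 𝟙 GK * (toUnit GK ≫ gK)⁻¹) ^ n
    rw [MonObj.comp_mul, MonObj.comp_mul, GrpObj.comp_inv, Category.comp_id, ← Category.assoc,
      toUnit_unique (_ ≫ toUnit GK) (toUnit GK), conj_pow]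
  have hp : IsPullback (pullback.fst G.hom p) (F.map f).left f.left (pullback.fst G.hom p) := by
    refine (IsPullback.of_bot (v₂₁ := pullback.snd G.hom p) (v₂₂ := G.hom) (h₃₁ := p) ?_ ?_
      (IsPullback.of_hasPullback G.hom p))
    · rw [show (F.map f).left ≫ pullback.snd G.hom p = pullback.snd G.hom p from Over.w (F.map f), Over.w f]
      exact IsPullback.of_hasPullback G.hom p
    · simp [F]
  haveI : LocallyOfFinitePresentation (f.left ≫ G.hom) := by rw [Over.w f]; infer_instance
  haveI : Flat (f.left ≫ G.hom) := by rw [Over.w f]; infer_instance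
  haveI : LocallyOfFinitePresentation f.left := H7Lim.locallyOfFinitePresentation_of_comp f.left G.hom
  let U := pullback.fst G.hom p ⁻¹ᵁ powLocus G n
  haveI : Etale (U.ι ≫ (F.map f).left) := H17.LocusBC.etale_preimage hp (powLocus G n)
  haveI : IsIso c.inv.left := ((Over.forget _).mapIso c.symm).isIso_hom
  haveI : IsIso c.hom.left := ((Over.forget _).mapIso c).isIso_hom
  let U' := c.inv.left ⁻¹ᵁ U
  have hU' : Etale (U'.ι ≫ (F.map f).left) := by
    have hr : Set.range (U'.ι ≫ c.inv.left) ⊆ Set.range U.ι := by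
      rintro _ ⟨z, rfl⟩
      rw [Scheme.Opens.range_ι]
      exact z.2
    haveI : IsOpenImmersion (IsOpenImmersion.lift U.ι (U'.ι ≫ c.inv.left) hr) := inferInstance
    have e1 : c.inv ≫ F.map f ≫ c.hom = F.map f := by rw [hcp, Iso.inv_hom_id_assoc]
    have e2 : U'.ι ≫ (F.map f).left =
        IsOpenImmersion.lift U.ι (U'.ι ≫ c.inv.left) hr ≫ (U.ι ≫ (F.map f).left) ≫ c.hom.left := by
      rw [Category.assoc, IsOpenImmersion.lift_fac_assoc, Category.assoc, ← Over.comp_left, ← Over.comp_left, e1]
    rw [e2]
    infer_instance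
  have hfst : ∀ y : Over.mk p ⟶ G, (pt y).left ≫ pullback.fst G.hom p = y.left := fun y => by
    rw [H21Diag.bcEquiv_left_fst, Over.comp_left]
    exact Category.id_comp _
  have hq : q (IsLocalRing.closedPoint K) = t := X.left.fromSpecResidueField_apply t _
  have hy : yK ≫ c.inv = xK := by
    apply (H21Diag.bcEquiv p G O).symm.injective
    change (H21Diag.bcEquiv p G O).symm (yK ≫ ((toUnit GK ≫ gK)⁻¹ * 𝟙 GK * (toUnit GK ≫ gK))) = _
    rw [MonObj.comp_mul, MonObj.comp_mul, GrpObj.comp_inv, Category.comp_id, ← Category.assoc,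
      toUnit_unique (yK ≫ toUnit GK) (𝟙 _), Category.id_comp]
    have hinv : (H21Diag.bcEquiv p G O).symm gK⁻¹ = ((H21Diag.bcEquiv p G O).symm gK)⁻¹ :=
      map_inv (MonoidHom.mk' (H21Diag.bcEquiv p G O).symm (H21Diag.bcEquiv_symm_mul p G O)) gK
    rw [H21Diag.bcEquiv_symm_mul, H21Diag.bcEquiv_symm_mul, hinv]
    simp only [xK, gK, yK, pt, Equiv.symm_apply_apply, MonObj.comp_mul, GrpObj.comp_inv]
    group
  obtain ⟨V, hV, hVe⟩ := exists_etale_nhd f.left G.hom p hp (IsPullback.of_hasPullback G.hom p)
    (yK.left (IsLocalRing.closedPoint K)) ⟨U', by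
      change (c.inv.left (yK.left _)) ∈ U
      rw [← Scheme.Hom.comp_apply, ← Over.comp_left, hy]
      change (xK.left ≫ pullback.fst G.hom p) (IsLocalRing.closedPoint K) ∈ powLocus G n
      rw [hfst]
      change x.left (q _) ∈ _
      rw [hq]
      exact hx, hU'⟩
  refine TopologicalSpace.Opens.mem_sSup.mpr ⟨V, hVe, ?_⟩
  change (yK.left ≫ pullback.fst G.hom p) (IsLocalRing.closedPoint K) ∈ V at hV
  rw [hfst] at hV
  change (g * x * g⁻¹).left (q _) ∈ V at hV
  rwa [hq] at hV

theorem agree_congr {X Y Y' : Scheme.{u}} {a b : X ⟶ Y} {a' b' : X ⟶ Y'}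
    (h : ∀ {T : Scheme.{u}} (z : T ⟶ X), z ≫ a = z ≫ b ↔ z ≫ a' = z ≫ b') : agree a b = agree a' b' :=
  Set.ext fun _ => h _

/-- Points killed by the exponent, near which the power map is etale, are central if the fibres are connected. -/
theorem central_of_connected [Flat G.hom] [LocallyOfFinitePresentation G.hom]
    (hG : ∀ s : S, _root_.IsConnected (G.hom.base ⁻¹' {s})) {H : Over S} (u : H ⟶ G) (hun : u ^ n = 1)
    (hu : ∀ t, u.left t ∈ powLocus G n) : Central u := by
  haveI : GeometricallyConnected G.hom := H19Grp.geometricallyConnected_of_connected_fibres G fun s =>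
    haveI : ConnectedSpace (G.hom.base ⁻¹' {s}) := Subtype.connectedSpace (hG s)
    (G.hom.fiberHomeo s).symm.surjective.connectedSpace (G.hom.fiberHomeo s).symm.continuous
  let X := H ⊗ G
  let g : X ⟶ G := snd H G
  let x : X ⟶ G := fst H G ≫ u
  have hx : x ^ n = 1 := by rw [← MonObj.comp_pow, hun, MonObj.comp_one]
  let a : X ⟶ G := g * x * g⁻¹
  suffices hab : a = x by
    intro W w y
    have h := congrArg (lift w y ≫ ·) hab
    simp only [a, x, g, MonObj.comp_mul, GrpObj.comp_inv, lift_snd, lift_fst_assoc] at h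
    rw [mul_inv_eq_iff_eq_mul] at h
    exact h.symm
  let W := powLocus G n
  have hr : ∀ {c : X ⟶ G}, (∀ t, c.left t ∈ W) → Set.range c.left ⊆ Set.range W.ι := fun {c} hc => by
    rintro _ ⟨t, rfl⟩
    rw [Scheme.Opens.range_ι]
    exact hc t
  have hxW : ∀ t, x.left t ∈ W := fun t => hu ((fst H G).left t)
  have haW : ∀ t, a.left t ∈ W := fun t => conj_mem_powLocus n x g t (hxW t)
  let π := pullback.snd (W.ι ≫ ((𝟙 G : G ⟶ G) ^ n).left) (1 : X ⟶ G).left
  haveI : Etale π := MorphismProperty.pullback_snd _ _ (etale_powLocus n)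
  have hlift : ∀ (c : X ⟶ G) (hc : ∀ t, c.left t ∈ W), c ^ n = 1 →
      (IsOpenImmersion.lift W.ι c.left (hr hc)) ≫ W.ι ≫ ((𝟙 G : G ⟶ G) ^ n).left =
        𝟙 X.left ≫ (1 : X ⟶ G).left := fun c hc hcn => by
    rw [IsOpenImmersion.lift_fac_assoc, Category.id_comp, ← Over.comp_left, MonObj.comp_pow, Category.comp_id, hcn]
  let la := pullback.lift _ _ (hlift a haW (by rw [conj_pow, hx, _root_.mul_one, mul_inv_cancel]))
  let lb := pullback.lift _ _ (hlift x hxW hx)
  have hπ : la ≫ π = lb ≫ π := (pullback.lift_snd _ _ _).trans (pullback.lift_snd _ _ _).symm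
  have hagree : ∀ {T : Scheme.{u}} (z : T ⟶ X.left), z ≫ la = z ≫ lb ↔ z ≫ a.left = z ≫ x.left := by
    intro T z
    refine ⟨fun e => ?_, fun e => pullback.hom_ext ?_ ?_⟩
    · have := congrArg (· ≫ pullback.fst _ _ ≫ W.ι) e
      simpa only [la, lb, Category.assoc, pullback.lift_fst_assoc, IsOpenImmersion.lift_fac] using this
    · simp only [la, lb, Category.assoc, pullback.lift_fst]
      rw [← cancel_mono W.ι, Category.assoc, Category.assoc, IsOpenImmersion.lift_fac, IsOpenImmersion.lift_fac, e]
    · simp only [la, lb, Category.assoc, pullback.lift_snd]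
  have hopen : IsOpen (agree la lb) := by
    rw [agree_eq π hπ]
    exact (pullback.diagonal π).isOpenEmbedding.isOpen_range.preimage (pullback.lift la lb hπ).continuous
  have huniv : agree la lb = Set.univ := by
    refine Set.eq_univ_of_forall fun t => ?_
    let h := (fst H G).left t
    let K : Type u := H.left.residueField h
    let q : Spec (CommRingCat.of K) ⟶ H.left := H.left.fromSpecResidueField h
    let p : Spec (CommRingCat.of K) ⟶ S := q ≫ H.hom
    let GK := Red.bc p G
    letI : GrpObj GK := Functor.grpObjObj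
    haveI : LocallyOfFinitePresentation GK.hom := inferInstanceAs (LocallyOfFinitePresentation (pullback.snd G.hom p))
    haveI : GeometricallyConnected GK.hom := inferInstanceAs (GeometricallyConnected (pullback.snd G.hom p))
    haveI : IsSeparated (pullback.snd G.hom p) :=
      (H19Grp.isSeparated_iff_isClosedImmersion_one GK).mpr
        (H19Grp.isClosedImmersion_section_of_subsingleton GK.hom (η[GK] : 𝟙_ _ ⟶ GK).left (Over.w η[GK]))
    haveI : ConnectedSpace GK.left := GeometricallyConnected.connectedSpace_of_subsingleton (f := GK.hom)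
    let T := (Over.map p).obj GK
    haveI : ConnectedSpace T.left := ‹ConnectedSpace GK.left›
    let η₁ : T ⟶ H := Over.homMk (pullback.snd G.hom p ≫ q) (Category.assoc _ _ _)
    let η₂ : T ⟶ G := Over.homMk (pullback.fst G.hom p) pullback.condition
    let τ := lift η₁ η₂
    let A := agree (τ ≫ a).left (τ ≫ x).left
    have hA : τ.left ⁻¹' agree la lb = A := by
      rw [agree_congr hagree, preimage_agree]
      rfl
    have hclosed : IsClosed A := by
      let f := pullback.snd G.hom p
      let aK : T.left ⟶ pullback G.hom p := pullback.lift (τ ≫ a).left f (Over.w (τ ≫ a))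
      let bK : T.left ⟶ pullback G.hom p := pullback.lift (τ ≫ x).left f (Over.w (τ ≫ x))
      have hab : aK ≫ f = bK ≫ f := (pullback.lift_snd _ _ _).trans (pullback.lift_snd _ _ _).symm
      have ea : aK ≫ pullback.fst G.hom p = (τ ≫ a).left := pullback.lift_fst _ _ _
      have eb : bK ≫ pullback.fst G.hom p = (τ ≫ x).left := pullback.lift_fst _ _ _
      have hA' : A = agree aK bK := agree_congr fun z => by
        refine ⟨fun e => pullback.hom_ext (f := G.hom) (g := p) ?_ ?_, fun e => ?_⟩
        · rw [Category.assoc, Category.assoc, ea, eb]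
          exact e
        · simp only [aK, bK, Category.assoc, pullback.lift_snd]
        · rw [← ea, ← eb, reassoc_of% e]
      rw [hA', agree_eq f hab]
      exact (pullback.diagonal f).isClosedEmbedding.isClosed_range.preimage (pullback.lift aK bK hab).continuous
    have hne : A.Nonempty := by
      let j : Over.mk p ⟶ T := Over.homMk (pullback.lift (1 : Over.mk p ⟶ G).left (𝟙 _)
        ((Over.w (1 : Over.mk p ⟶ G)).trans (Category.id_comp p).symm)) (by
        change _ ≫ pullback.snd G.hom p ≫ p = p
        rw [pullback.lift_snd_assoc]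
        exact Category.id_comp p)
      have h2 : j ≫ η₂ = 1 := by
        ext : 1
        exact pullback.lift_fst _ _ _
      have he : j ≫ τ ≫ a = j ≫ τ ≫ x := by
        simp only [a, x, g, τ, MonObj.comp_mul, GrpObj.comp_inv, lift_snd, lift_fst_assoc, h2, _root_.one_mul,
          inv_one, _root_.mul_one]
      refine ⟨j.left (IsLocalRing.closedPoint K), ?_⟩
      change _ ∈ j.left ⁻¹' agree (τ ≫ a).left (τ ≫ x).left
      rw [preimage_agree, ← Over.comp_left, ← Over.comp_left, he]
      rfl
    have hAu : A = Set.univ := IsClopen.eq_univ ⟨hclosed, hA ▸ hopen.preimage τ.left.continuous⟩ hne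
    let rm := (fst H G).left.residueFieldMap t
    let r := X.left.fromSpecResidueField t
    let jt : Over.mk (r ≫ X.hom) ⟶ X := Over.homMk r rfl
    have hrm : Spec.map rm ≫ q = r ≫ (fst H G).left :=
      Scheme.Hom.SpecMap_residueFieldMap_fromSpecResidueField (fst H G).left t
    let z : Over.mk (r ≫ X.hom) ⟶ T := Over.homMk (pullback.lift (jt ≫ g).left (Spec.map rm)
      ((Over.w (jt ≫ g)).trans (by
        change r ≫ X.hom = Spec.map rm ≫ q ≫ H.hom
        rw [reassoc_of% hrm, Over.w (fst H G)]))) (by
        change _ ≫ pullback.snd G.hom p ≫ q ≫ H.hom = r ≫ X.hom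
        rw [pullback.lift_snd_assoc, reassoc_of% hrm, Over.w (fst H G)])
    have hz2 : z.left ≫ pullback.snd G.hom p = Spec.map rm := pullback.lift_snd _ _ _
    have hz : z ≫ τ = jt := by
      refine CartesianMonoidalCategory.hom_ext _ _ ?_ ?_
      · rw [Category.assoc, lift_fst]
        ext : 1
        change z.left ≫ pullback.snd G.hom p ≫ q = r ≫ _
        rw [← Category.assoc, hz2, hrm]
      · rw [Category.assoc, lift_snd]
        ext : 1
        exact pullback.lift_fst _ _ _
    let c := IsLocalRing.closedPoint (X.left.residueField t)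
    have hc : z.left c ∈ τ.left ⁻¹' agree la lb := by
      rw [hA, hAu]
      trivial
    have ht : τ.left (z.left c) = t := by
      rw [← Scheme.Hom.comp_apply, ← Over.comp_left, hz]
      exact X.left.fromSpecResidueField_apply t _
    exact ht ▸ hc
  have hrange : Set.range (pullback.lift la lb hπ) ⊆ Set.range (pullback.diagonal π) := by
    rintro _ ⟨t, rfl⟩
    have := huniv.symm ▸ Set.mem_univ t
    rwa [agree_eq π hπ] at this
  have hl : la = lb := by
    have e := IsOpenImmersion.lift_fac (pullback.diagonal π) _ hrange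
    have ea := congrArg (· ≫ pullback.fst π π) e
    have eb := congrArg (· ≫ pullback.snd π π) e
    simp only [Category.assoc, pullback.diagonal_fst, pullback.diagonal_snd, Category.comp_id,
      pullback.lift_fst, pullback.lift_snd] at ea eb
    exact ea.symm.trans eb
  have := (hagree (𝟙 _)).mp (by rw [hl])
  rw [Category.id_comp, Category.id_comp] at this
  exact Over.OverMorphism.ext this

end Groth.Agent.H21EtPt
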