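import Groth.Agent.H21EtPt.CentralLift
import Groth.Agent.H13Inf.Affine
import Groth.Agent.S8385

/-!
Central points killed by an invertible integer lift uniquely from the closed fibre of a complete Noetherian local ring.
-/

set_option autoImplicit false
set_option linter.style.haveILetI false
set_option linter.unusedSectionVars false
set_option backward.isDefEq.respectTransparency false
set_option synthInstance.maxHeartbeats 400000
set_option maxHeartbeats 1000000
universe u

open CategoryTheory CategoryTheory.Limits MonoidalCategory CartesianMonoidalCategory MonObj AlgebraicGeometry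

noncomputable section

namespace Groth.Agent.H21EtPt

variable {A : Type u} [CommRing A] [IsLocalRing A]

/-- The closed point. -/
abbrev qm (A : Type u) [CommRing A] [IsLocalRing A] :
    Spec (CommRingCat.of (A ⧸ IsLocalRing.maximalIdeal A)) ⟶ Spec (CommRingCat.of A) :=
  Spec.map (CommRingCat.ofHom (Ideal.Quotient.mk (IsLocalRing.maximalIdeal A)))

variable (A) (B : Type u) [CommRing B] [Algebra A B]

/-- An affine scheme over the ring. -/
abbrev aff : Over (Spec (CommRingCat.of A)) := Over.mk (Spec.map (CommRingCat.ofHom (algebraMap A B)))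

/-- The ideal of a thickening of the closed fibre. -/
abbrev lvI (k : ℕ) : Ideal B := Ideal.map (algebraMap A B) (IsLocalRing.maximalIdeal A ^ k)

/-- A thickening of the closed fibre. -/
abbrev lv (k : ℕ) : Over (Spec (CommRingCat.of A)) :=
  Over.mk (Spec.map (CommRingCat.ofHom ((Ideal.Quotient.mk (lvI A B k)).comp (algebraMap A B))))

/-- Transition of thickenings. -/
abbrev lvMap {k l : ℕ} (h : k ≤ l) : lv A B k ⟶ lv A B l :=
  Over.homMk (Spec.map (CommRingCat.ofHom (Ideal.Quotient.factor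
    (Ideal.map_mono (Ideal.pow_le_pow_right (I := IsLocalRing.maximalIdeal A) h))))) (by
    change _ ≫ Spec.map _ = Spec.map _
    rw [← Spec.map_comp]
    rfl)

/-- A thickening in the whole. -/
abbrev lvIncl (k : ℕ) : lv A B k ⟶ aff A B :=
  Over.homMk (Spec.map (CommRingCat.ofHom (Ideal.Quotient.mk (lvI A B k)))) (by
    change _ ≫ Spec.map _ = Spec.map _
    rw [← Spec.map_comp]
    rfl)

theorem lvMap_incl {k l : ℕ} (h : k ≤ l) : lvMap A B h ≫ lvIncl A B l = lvIncl A B k := by
  ext : 1
  change Spec.map _ ≫ Spec.map _ = Spec.map _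
  rw [← Spec.map_comp]
  rfl

theorem lvMap_comp {k l m : ℕ} (h : k ≤ l) (h' : l ≤ m) :
    lvMap A B h ≫ lvMap A B h' = lvMap A B (h.trans h') := by
  ext : 1
  change Spec.map _ ≫ Spec.map _ = Spec.map _
  rw [← Spec.map_comp]
  congr 1
  exact CommRingCat.hom_ext (Ideal.Quotient.ringHom_ext (RingHom.ext fun _ => rfl))

theorem lvMap_closed_surjective {k l : ℕ} (hk : 0 < k) (h : k ≤ l) :
    IsClosedImmersion (lvMap A B h).left ∧ Surjective (lvMap A B h).left := by
  let φ := Ideal.Quotient.factor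
    (Ideal.map_mono (f := algebraMap A B) (Ideal.pow_le_pow_right (I := IsLocalRing.maximalIdeal A) h))
  have hφ : Function.Surjective φ := Ideal.Quotient.factor_surjective _
  refine ⟨IsClosedImmersion.spec_of_surjective (CommRingCat.ofHom φ) hφ, ⟨fun p => ?_⟩⟩
  refine (show p ∈ Set.range (PrimeSpectrum.comap φ) from ?_)
  rw [range_comap_of_surjective _ _ hφ, PrimeSpectrum.mem_zeroLocus]
  intro x hx
  obtain ⟨b, rfl⟩ := Ideal.Quotient.mk_surjective x
  replace hx : b ∈ lvI A B k := Ideal.Quotient.eq_zero_iff_mem.mp hx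
  refine p.2.mem_of_pow_mem l ?_
  have : b ^ l ∈ lvI A B l := by
    have h1 : b ∈ (IsLocalRing.maximalIdeal A).map (algebraMap A B) :=
      Ideal.map_mono (Ideal.pow_le_self hk.ne') hx
    have h2 := Ideal.pow_mem_pow h1 l
    rwa [← Ideal.map_pow] at h2
  rw [← map_pow, Ideal.Quotient.eq_zero_iff_mem.mpr this]
  exact zero_mem _

theorem exists_closedFibre_iso :
    ∃ h : lv A B 1 ≅ (Over.map (qm A)).obj (Red.bc (qm A) (aff A B)), h.hom ≫ eps (qm A) (aff A B) = lvIncl A B 1 := by
  let φ := algebraMap A B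
  have hsq : IsPullback (Spec.map (CommRingCat.ofHom (Ideal.Quotient.mk ((IsLocalRing.maximalIdeal A).map φ))))
      (Spec.map (CommRingCat.ofHom (Ideal.quotientMap ((IsLocalRing.maximalIdeal A).map φ) φ Ideal.le_comap_map)))
      (Spec.map (CommRingCat.ofHom φ)) (qm A) :=
    (isPullback_SpecMap_of_isPushout _ _ _ _ (H13Inf.isPushout_quotient φ _)).flip
  let e₀ : B ⧸ lvI A B 1 ≃+* B ⧸ (IsLocalRing.maximalIdeal A).map φ := Ideal.quotEquivOfEq (by simp [lvI, φ])
  let j : (lv A B 1).left ≅ pullback (Spec.map (CommRingCat.ofHom φ)) (qm A) :=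
    (Scheme.Spec.mapIso (e₀.toCommRingCatIso.op)).symm ≪≫ hsq.isoPullback
  have hfst : j.hom ≫ pullback.fst _ _ = Spec.map (CommRingCat.ofHom (Ideal.Quotient.mk (lvI A B 1))) := by
    simp only [j, Iso.trans_hom, Category.assoc, hsq.isoPullback_hom_fst]
    rw [Iso.symm_hom, Iso.inv_comp_eq]
    change _ = Spec.map _ ≫ Spec.map _
    rw [← Spec.map_comp]
    rfl
  refine ⟨Over.isoMk j ?_, ?_⟩
  · change j.hom ≫ pullback.snd _ _ ≫ qm A = _
    rw [← pullback.condition, ← Category.assoc, hfst]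
    exact (Spec.map_comp _ _).symm
  · ext : 1
    rw [Over.comp_left, show (eps (qm A) (aff A B)).left = pullback.fst (aff A B).hom (qm A) by simp [eps]]
    exact hfst

variable [IsNoetherianRing A] [IsAdicComplete (IsLocalRing.maximalIdeal A) A] [Module.Finite A B]
  {G : Over (Spec (CommRingCat.of A))} [GrpObj G]

theorem hom_ext_lv {a b : aff A B ⟶ G} (h : ∀ k, lvIncl A B k ≫ a = lvIncl A B k ≫ b) : a = b :=
  Over.OverMorphism.ext ((S8385.result A B G).1 a.left b.left (Over.w a) (Over.w b)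
    fun k => congrArg (fun w => w.left) (h k))

variable [Flat G.hom] [LocallyOfFinitePresentation G.hom] (n : ℕ)

theorem lift_ext_aff (hn : ∀ (X : Over (Spec (CommRingCat.of A))) (t : X.left), (n : X.left.residueField t) ≠ 0)
    {a b : aff A B ⟶ G} (ha : a ^ n = 1) (hb : b ^ n = 1) (hc : Central (eps (qm A) (aff A B) ≫ a))
    (h : eps (qm A) (aff A B) ≫ a = eps (qm A) (aff A B) ≫ b) : a = b := by
  obtain ⟨e, he⟩ := exists_closedFibre_iso A B
  have h1 : ∀ k, lvIncl A B (k + 1) ≫ a = lvIncl A B (k + 1) ≫ b := fun k => by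
    have hk : 1 ≤ k + 1 := k.succ_pos
    obtain ⟨hci, hsu⟩ := lvMap_closed_surjective A B one_pos hk
    refine lift_ext n (lvMap A B hk) (hn _) (by rw [← MonObj.comp_pow, ha, MonObj.comp_one])
      (by rw [← MonObj.comp_pow, hb, MonObj.comp_one]) ?_ ?_
    · rw [← Category.assoc, lvMap_incl, ← he, Category.assoc]
      exact hc.comp _
    · rw [← Category.assoc, ← Category.assoc, lvMap_incl, ← he, Category.assoc, Category.assoc, h]
  refine hom_ext_lv A B fun k => ?_
  rw [← lvMap_incl A B k.le_succ, Category.assoc, Category.assoc, h1]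

theorem exists_lift_aff (hn : ∀ (X : Over (Spec (CommRingCat.of A))) (t : X.left), (n : X.left.residueField t) ≠ 0)
    {x₀ : (Over.map (qm A)).obj (Red.bc (qm A) (aff A B)) ⟶ G} (hc : Central x₀) (hx : x₀ ^ n = 1) :
    ∃ x : aff A B ⟶ G, x ^ n = 1 ∧ eps (qm A) (aff A B) ≫ x = x₀ := by
  obtain ⟨e, he⟩ := exists_closedFibre_iso A B
  have hlift : ∀ k, ∃ v : lv A B (k + 1) ⟶ G, v ^ n = 1 ∧ lvMap A B k.succ_pos ≫ v = e.hom ≫ x₀ := fun k => by
    obtain ⟨hci, hsu⟩ := lvMap_closed_surjective A B one_pos k.succ_pos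
    exact exists_lift n (lvMap A B k.succ_pos) (hn _) (hc.comp _) (by rw [← MonObj.comp_pow, hx, MonObj.comp_one])
  choose v hvn hv using hlift
  have hcompat : ∀ k, lvMap A B (k + 1).le_succ ≫ v (k + 1) = v k := fun k => by
    obtain ⟨hci, hsu⟩ := lvMap_closed_surjective A B one_pos k.succ_pos
    refine lift_ext n (lvMap A B k.succ_pos) (hn _) (by rw [← MonObj.comp_pow, hvn, MonObj.comp_one]) (hvn k) ?_ ?_
    · rw [← Category.assoc, lvMap_comp, hv]
      exact hc.comp _
    · rw [← Category.assoc, lvMap_comp, hv, hv]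
  obtain ⟨f, hf, hfu⟩ := (S8385.result A B G).2 (fun k => (lvMap A B k.le_succ ≫ v k).left)
    (fun k => Over.w (lvMap A B k.le_succ ≫ v k)) (fun k => by
      rw [← hcompat k]
      rfl)
  let x : aff A B ⟶ G := Over.homMk f hf
  have hxk : ∀ k, lvIncl A B k ≫ x = lvMap A B k.le_succ ≫ v k := fun k => by ext : 1; exact hfu k
  refine ⟨x, hom_ext_lv A B fun k => ?_, ?_⟩
  · rw [MonObj.comp_pow, hxk, ← MonObj.comp_pow, hvn, MonObj.comp_one, MonObj.comp_one]
  · have h := hxk 1
    have h2 : lvMap A B (1 : ℕ).le_succ ≫ v 1 = e.hom ≫ x₀ := hv 1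
    rw [h2, ← he, Category.assoc] at h
    exact (cancel_epi e.hom).mp h

end Groth.Agent.H21EtPt
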