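import Groth.Agent.H06EGA9.AtPoint
import Groth.Agent.H06EGA9.FlatBCAtPoint
import Groth.Agent.H8Props.FibreCriterion

/-!
Etaleness at a point is detected after base change to a field-valued point of the base, given flatness over the base.
-/

set_option autoImplicit false
set_option linter.style.haveILetI false
set_option backward.isDefEq.respectTransparency false
universe u

open CategoryTheory CategoryTheory.Limits AlgebraicGeometry TopologicalSpace Topology

noncomputable section

namespace Groth.Agent.H21EtPt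

open H06EGA9

/-- If the base change to a field-valued point of `S` of an `S`-morphism with source flat over `S` is etale near a
point, then the morphism is etale near the image of that point. -/
theorem exists_etale_nhd {X Y S : Scheme.{u}} (f : X ⟶ Y) (h : Y ⟶ S) [LocallyOfFinitePresentation h]
    [LocallyOfFinitePresentation (f ≫ h)] [LocallyOfFinitePresentation f] [Flat (f ≫ h)]
    {K : Type u} [Field K] (p : Spec (CommRingCat.of K) ⟶ S) {XK YK : Scheme.{u}} {gX : XK ⟶ X} {fK : XK ⟶ YK}
    {gY : YK ⟶ Y} {hK : YK ⟶ Spec (CommRingCat.of K)} (sq₁ : IsPullback gX fK f gY) (sq₂ : IsPullback gY hK h p)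
    (z : XK) (hz : ∃ U : XK.Opens, z ∈ U ∧ Etale (U.ι ≫ fK)) :
    ∃ U : X.Opens, gX z ∈ U ∧ Etale (U.ι ≫ f) := by
  haveI : LocallyOfFinitePresentation fK := MorphismProperty.of_isPullback sq₁ ‹_›
  obtain ⟨hsm, hun⟩ := (exists_etale_iff fK z).mp hz
  have hflK := H17.LocusBC.flat_stalkMap_of_mem_smoothLocus fK hsm
  have hsmF : gX z ∈ smFib f :=
    (smFib_baseChange_iff f sq₁ z).mp ((mem_smFib_iff_mem_smoothLocus_of_flat fK hflK).mpr hsm)
  have hunF : gX z ∈ unramSet f := (mem_unramSet_baseChange_iff f sq₁ z).mp hun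
  -- the fibre through which `p` factors
  obtain ⟨⟨s, φ⟩, rfl⟩ := (Scheme.SpecToEquivOfField K S).symm.surjective p
  let ψ : Spec (CommRingCat.of K) ⟶ Spec (S.residueField s) := Spec.map φ
  have hψ : ψ ≫ S.fromSpecResidueField s = (Scheme.SpecToEquivOfField K S).symm ⟨s, φ⟩ := rfl
  haveI : Flat ψ := by
    refine (HasRingHomProperty.Spec_iff (P := @Flat)).mpr ?_
    letI := φ.hom.toAlgebra
    rw [show φ.hom = algebraMap (S.residueField s) K from rfl, RingHom.flat_algebraMap_iff]
    infer_instance
  let q : YK ⟶ h.fiber s := pullback.lift gY (hK ≫ ψ) (by rw [sq₂.w, Category.assoc, hψ])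
  have sqY : IsPullback q hK (h.fiberToSpecResidueField s) ψ :=
    IsPullback.of_right (by
      rw [show q ≫ pullback.fst h (S.fromSpecResidueField s) = gY from pullback.lift_fst _ _ _, hψ]
      exact sq₂) (pullback.lift_snd _ _ _) (IsPullback.of_hasPullback _ _)
  haveI : Flat q := MorphismProperty.of_isPullback sqY.flip ‹Flat ψ›
  have sqF := H8Props.FibreCriterion.isPullback_fiberMap f h s
  let qX : XK ⟶ (f ≫ h).fiber s := sqF.lift gX (fK ≫ q) (by
    rw [sq₁.w, Category.assoc, show q ≫ h.fiberι s = gY from pullback.lift_fst _ _ _])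
  have sqX : IsPullback qX fK (MoreMor.fiberMap f h s) q :=
    IsPullback.of_right (by
      rw [sqF.lift_fst, show q ≫ h.fiberι s = gY from pullback.lift_fst _ _ _]
      exact sq₁) (sqF.lift_snd _ _ _) sqF
  haveI : LocallyOfFinitePresentation (MoreMor.fiberMap f h s) := MorphismProperty.of_isPullback sqF ‹_›
  have hs : qX z ∈ (MoreMor.fiberMap f h s).smoothLocus :=
    mem_smoothLocus_of_baseChange_flatAt sqX z (Flat.stalkMap q _) hsm
  have hfl := (H8Props.FibreCriterion.flat_stalkMap_of_fiberMap f h s (qX z)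
    (H17.LocusBC.flat_stalkMap_of_mem_smoothLocus _ hs)).1
  rw [show (f ≫ h).fiberι s (qX z) = gX z by rw [← Scheme.Hom.comp_apply, sqF.lift_fst]] at hfl
  exact (exists_etale_iff f _).mpr ⟨(mem_smFib_iff_mem_smoothLocus_of_flat f hfl).mp hsmF, hunF⟩

end Groth.Agent.H21EtPt
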