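import Groth.Agent.H21Diag.TorusPart
import Groth.Agent.H21Diag.SubgroupSplit
import Mathlib.GroupTheory.FiniteAbelian.Basic
import Mathlib.RingTheory.DualNumber

/-!
Unramified diagonalisable groups have exponents invertible in the residue fields.
-/

set_option autoImplicit false
set_option linter.style.haveILetI false
set_option backward.isDefEq.respectTransparency false
set_option synthInstance.maxHeartbeats 400000
universe u

open CategoryTheory CategoryTheory.Limits MonoidalCategory CartesianMonoidalCategory MonObj AlgebraicGeometry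
open scoped DirectSum

noncomputable section

namespace Groth.Agent.H21EtPt

/-- Morphisms into an unramified scheme agreeing on a surjective subscheme are equal. -/
theorem eq_of_unramified {X Y T T₀ : Scheme.{u}} (π : X ⟶ Y) [FormallyUnramified π] [LocallyOfFiniteType π]
    {a b : T ⟶ X} (hπ : a ≫ π = b ≫ π) (i : T₀ ⟶ T) [Surjective i] (h : i ≫ a = i ≫ b) : a = b := by
  let l := pullback.lift a b hπ
  have hl : i ≫ l = (i ≫ a) ≫ pullback.diagonal π := by
    refine pullback.hom_ext ?_ ?_
    · rw [Category.assoc, Category.assoc, pullback.lift_fst, pullback.diagonal_fst, Category.comp_id]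
    · rw [Category.assoc, Category.assoc, pullback.lift_snd, pullback.diagonal_snd, Category.comp_id, h]
  have hr : Set.range l ⊆ Set.range (pullback.diagonal π) := by
    rintro _ ⟨t, rfl⟩
    obtain ⟨t₀, rfl⟩ := i.surjective t
    exact ⟨(i ≫ a) t₀, by rw [← Scheme.Hom.comp_apply, ← hl]; rfl⟩
  have hm := IsOpenImmersion.lift_fac (pullback.diagonal π) l hr
  have e1 := congrArg (· ≫ pullback.fst π π) hm
  have e2 := congrArg (· ≫ pullback.snd π π) hm
  simp only [Category.assoc, pullback.diagonal_fst, pullback.diagonal_snd, Category.comp_id, l, pullback.lift_fst,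
    pullback.lift_snd] at e1 e2
  exact e1.symm.trans e2

variable {M : Type} [AddCommGroup M]

/-- Characters of a diagonalisable group unramified over a field-valued point take no tangent values. -/
theorem addMonoidHom_eq_zero {U : Scheme.{u}} [FormallyUnramified (Red.DS U M).hom]
    [LocallyOfFiniteType (Red.DS U M).hom] {K : Type u} [Field K] (y : Spec (CommRingCat.of K) ⟶ U) (f : M →+ K) :
    f = 0 := by
  let χ : Multiplicative M →* DualNumber K :=
    { toFun := fun m => TrivSqZeroExt.inl 1 + TrivSqZeroExt.inr (f m.toAdd)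
      map_one' := by simp
      map_mul' := fun a b => by
        ext
        · simp
        · simp [map_add, add_comm] }
  let fst' : DualNumber K →+* K := (TrivSqZeroExt.fstHom K K K).toRingHom
  let i : Spec (CommRingCat.of K) ⟶ Spec (CommRingCat.of (DualNumber K)) := Spec.map (CommRingCat.ofHom fst')
  haveI : Surjective i := by
    refine ⟨fun p => ⟨IsLocalRing.closedPoint K, PrimeSpectrum.ext ?_⟩⟩
    ext d
    change fst' d ∈ (IsLocalRing.closedPoint K).asIdeal ↔ d ∈ p.asIdeal
    rw [show (IsLocalRing.closedPoint K).asIdeal = ⊥ from IsLocalRing.maximalIdeal_eq_bot, Ideal.mem_bot]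
    refine ⟨fun hd => p.2.mem_of_pow_mem 2 ?_, fun hd => by_contra fun h => p.2.ne_top ?_⟩
    · have : d ^ 2 = 0 := by
        have hd' : TrivSqZeroExt.fst d = 0 := hd
        ext <;> simp [pow_two, hd']
      rw [this]; exact zero_mem _
    · exact Ideal.eq_top_of_isUnit_mem _ hd (TrivSqZeroExt.isUnit_iff_isUnit_fst.mpr (isUnit_iff_ne_zero.mpr h))
  let yε : Spec (CommRingCat.of (DualNumber K)) ⟶ U := Spec.map (CommRingCat.ofHom (algebraMap K (DualNumber K))) ≫ y
  have h : H21Diag.dpt yε χ = H21Diag.dpt yε 1 := by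
    refine Over.OverMorphism.ext (eq_of_unramified (Red.DS U M).hom
      ((Over.w (H21Diag.dpt yε χ)).trans (Over.w (H21Diag.dpt yε 1)).symm) i ?_)
    refine pullback.hom_ext ?_ ?_
    · rw [Category.assoc, Category.assoc, H21Diag.dpt_fst, H21Diag.dpt_fst, ← Spec.map_comp, ← Spec.map_comp]
      refine congrArg Spec.map (CommRingCat.hom_ext (H21Diag.charRingHom_ext fun m => ?_))
      simp [χ, fst']
    · rw [Category.assoc, Category.assoc]
      exact congrArg (i ≫ ·) ((Over.w (H21Diag.dpt yε χ)).trans (Over.w (H21Diag.dpt yε 1)).symm)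
  ext m
  have := congrArg (fun χ' : Multiplicative M →* DualNumber K => TrivSqZeroExt.snd (χ' (Multiplicative.ofAdd m)))
    (H21Diag.dpt_injective _ h)
  simpa [χ] using this

/-- A finitely generated group without non-zero homomorphisms to a field has an exponent invertible in it. -/
theorem exists_exponent [AddGroup.FG M] {K : Type u} [Field K] (h : ∀ f : M →+ K, f = 0) :
    (AddMonoid.exponent M : K) ≠ 0 ∧ 0 < AddMonoid.exponent M := by
  classical
  obtain ⟨n, ι', _, p, hp, e, ⟨φ⟩⟩ := AddCommGroup.equiv_free_prod_directSum_zmod M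
  have hn : n = 0 := by
    by_contra hn
    let j : Fin n := ⟨0, Nat.pos_of_ne_zero hn⟩
    let f : M →+ K := ((Int.castAddHom K).comp (Finsupp.applyAddHom j)).comp
      ((AddMonoidHom.fst _ _).comp φ.toAddMonoidHom)
    have := DFunLike.congr_fun (h f) (φ.symm (Finsupp.single j 1, 0))
    simp [f] at this
  subst hn
  let N := ∏ i, p i ^ e i
  have hN : ∀ m : M, N • m = 0 := fun m => φ.injective <| by
    rw [map_nsmul, map_zero]
    refine Prod.ext (Subsingleton.elim _ _) ?_
    rw [Prod.smul_snd]
    refine DirectSum.ext fun i => ?_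
    rw [DirectSum.smul_apply, Prod.snd_zero, DirectSum.zero_apply]
    obtain ⟨c, hc⟩ := Finset.dvd_prod_of_mem (fun i => p i ^ e i) (Finset.mem_univ i)
    rw [show N = p i ^ e i * c from hc, mul_nsmul, nsmul_eq_mul (p i ^ e i), ZMod.natCast_self, zero_mul, smul_zero]
  have hNK : (N : K) ≠ 0 := by
    rw [Nat.cast_prod, Finset.prod_ne_zero_iff]
    intro i _ h0
    obtain ⟨he, hp0⟩ : e i ≠ 0 ∧ (p i : K) = 0 := by
      rw [Nat.cast_pow] at h0
      exact ⟨fun he => by simp [he] at h0, pow_eq_zero_iff (fun he => by simp [he] at h0) |>.mp h0⟩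
    haveI := Fact.mk (hp i)
    haveI : CharP K (p i) := (CharP.ringChar_of_prime_eq_zero (hp i) hp0) ▸ ringChar.charP K
    let f : M →+ K := (((ZMod.castHom (dvd_refl (p i)) K).toAddMonoidHom.comp
      (ZMod.castHom (dvd_pow_self (p i) he) (ZMod (p i))).toAddMonoidHom).comp
        (DFinsupp.evalAddMonoidHom i)).comp ((AddMonoidHom.snd _ _).comp φ.toAddMonoidHom)
    have := DFunLike.congr_fun (h f) (φ.symm (0, DirectSum.of _ i 1))
    simp [f] at this
    erw [show (DFinsupp.evalAddMonoidHom i) ((DirectSum.of (fun i => ZMod (p i ^ e i)) i) 1) =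
      (1 : ZMod (p i ^ e i)) from DirectSum.of_eq_same i 1] at this
    rw [ZMod.cast_one (dvd_pow_self (p i) he), ZMod.cast_one (dvd_refl (p i))] at this
    exact one_ne_zero this
  have hdvd : AddMonoid.exponent M ∣ N := AddMonoid.exponent_dvd_of_forall_nsmul_eq_zero hN
  refine ⟨fun h0 => hNK ?_, Nat.pos_of_ne_zero fun h0 => hNK ?_⟩
  · obtain ⟨c, hc⟩ := hdvd
    rw [hc, Nat.cast_mul, h0, zero_mul]
  · rw [h0, zero_dvd_iff] at hdvd
    rw [hdvd, Nat.cast_zero]

end Groth.Agent.H21EtPt
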