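import Groth.Agent.H21EtPt.CentralLift
import Groth.Agent.H21EtPt.Unramified
import Groth.Agent.H06Unram.SmoothQF
import Groth.Agent.H21Diag.FiniteType
import Groth.Agent.H21Split.PinWeyl

/-!
Finite smooth groups of multiplicative type are locally killed by invertible integers.
-/

set_option autoImplicit false
set_option linter.style.haveILetI false
set_option backward.isDefEq.respectTransparency false
set_option synthInstance.maxHeartbeats 400000
set_option maxHeartbeats 1000000
universe u

open CategoryTheory CategoryTheory.Limits MonoidalCategory CartesianMonoidalCategory MonObj AlgebraicGeometry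

noncomputable section

namespace Groth.Agent.H21EtPt

theorem pow_eq_one_of_iso {S : Scheme.{u}} {A B : Over S} [GrpObj A] [GrpObj B] (e : Grp.mk A ≅ Grp.mk B) (n : ℕ)
    (h : (𝟙 B : B ⟶ B) ^ n = 1) : (𝟙 A : A ⟶ A) ^ n = 1 := by
  let f : A ⟶ B := e.hom.hom.hom
  haveI : IsMonHom f := inferInstanceAs (IsMonHom e.hom.hom.hom)
  haveI : IsIso f := ((Grp.forget _).mapIso e).isIso_hom
  rw [← cancel_mono f, MonObj.one_comp, pow_comp, Category.id_comp, ← Category.comp_id f, ← MonObj.comp_pow, h,
    MonObj.comp_one]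

/-- Finite smooth groups of multiplicative type are killed, near every point, by an integer invertible there. -/
theorem exists_killed {S : Scheme.{u}} (H : Over S) [GrpObj H] [IsFinite H.hom] [Smooth H.hom]
    (hH : SGA3x.IsMultTypeFT H) (t : S) : ∃ (V : S.Opens) (n : ℕ), t ∈ V ∧ Killed H V n := by
  haveI : Etale H.hom := (H06Unram.etale_iff_smooth_and_locallyQuasiFinite H.hom).mpr ⟨inferInstance, inferInstance⟩
  obtain ⟨S', f, _, _, -, hch⟩ := hH
  obtain ⟨s', rfl⟩ := f.surjective t
  obtain ⟨U, hs', M, _, hM, ⟨e⟩⟩ := hch s'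
  let w := U.ι ≫ f
  haveI hunr : FormallyUnramified (Red.DS (U : Scheme.{u}) M).hom := by
    have hw : e.inv.hom.hom.left ≫ (Red.bc w H).hom = (Red.DS (U : Scheme.{u}) M).hom := Over.w e.inv.hom.hom
    haveI : IsIso e.inv.hom.hom.left :=
      ((Over.forget _).mapIso ((Grp.forget _).mapIso e.symm)).isIso_hom
    haveI : Etale (Red.bc w H).hom := inferInstanceAs (Etale (pullback.snd H.hom w))
    rw [← hw]
    infer_instance
  haveI : LocallyOfFiniteType (Red.DS (U : Scheme.{u}) M).hom :=
    MorphismProperty.pullback_snd _ _ (H21Diag.lft_diag M)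
  let u₁ : (U : Scheme.{u}) := ⟨s', hs'⟩
  let K : Type u := (U : Scheme.{u}).residueField u₁
  obtain ⟨hnK, hn0⟩ := exists_exponent (M := M) (K := K)
    fun g => addMonoidHom_eq_zero (M := M) ((U : Scheme.{u}).fromSpecResidueField u₁) g
  set n := AddMonoid.exponent M
  have hDS : (𝟙 (Red.DS (U : Scheme.{u}) M)) ^ n = 1 := by
    rw [H21Diag.id_pow_eq_DSmap]
    have : nsmulAddMonoidHom (α := M) n = 0 := AddMonoidHom.ext fun m => AddMonoid.exponent_nsmul_eq_zero m
    rw [this, H21Split.DSmap_zero]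
  let F := Over.pullback w
  have hbc : (𝟙 (Red.bc w H)) ^ n = 1 := pow_eq_one_of_iso e n hDS
  have hfst : pullback.fst H.hom w ≫ ((𝟙 H : H ⟶ H) ^ n).left = pullback.fst H.hom w ≫ (1 : H ⟶ H).left := by
    have h1 : F.map ((𝟙 H : H ⟶ H) ^ n) = F.map (1 : H ⟶ H) := by
      refine ((map_pow (Functor.homMonoidHom F (X := H) (M := H)) (𝟙 H) n)).trans ?_
      refine Eq.trans ?_ (map_one (Functor.homMonoidHom F (X := H) (M := H))).symm
      show (F.map (𝟙 H)) ^ n = 1
      rw [F.map_id]
      exact hbc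
    have h2 := congrArg (fun v => v.left ≫ pullback.fst H.hom w) h1
    simpa only [F, Over.pullback_map_left, pullback.lift_fst] using h2
  let a := ((𝟙 H : H ⟶ H) ^ n).left
  let b := (1 : H ⟶ H).left
  let l := pullback.lift (f := H.hom) (g := H.hom) a b (by rw [Over.w, Over.w])
  let O : H.left.Opens := l ⁻¹ᵁ (pullback.diagonal H.hom).opensRange
  have hO : O.ι ≫ a = O.ι ≫ b := by
    have hr : Set.range (O.ι ≫ l) ⊆ Set.range (pullback.diagonal H.hom) := by
      rintro _ ⟨z, rfl⟩
      exact z.2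
    have hm := IsOpenImmersion.lift_fac (pullback.diagonal H.hom) _ hr
    have e1 := congrArg (· ≫ pullback.fst H.hom H.hom) hm
    have e2 := congrArg (· ≫ pullback.snd H.hom H.hom) hm
    simp only [Category.assoc, pullback.diagonal_fst, pullback.diagonal_snd, Category.comp_id, l, pullback.lift_fst,
      pullback.lift_snd] at e1 e2
    exact e1.symm.trans e2
  let s := f.base s'
  have hfib : ∀ y : H.left, H.hom y = f s' → y ∈ O := fun y hy => by
    obtain ⟨z, hz, -⟩ := Scheme.Pullback.exists_preimage_pullback (f := H.hom) (g := w) y u₁ (by rw [hy]; rfl)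
    rw [← hz]
    refine ⟨(pullback.fst H.hom w ≫ a) z, ?_⟩
    have : pullback.fst H.hom w ≫ l = (pullback.fst H.hom w ≫ a) ≫ pullback.diagonal H.hom := by
      refine pullback.hom_ext ?_ ?_
      · rw [Category.assoc, Category.assoc, pullback.lift_fst, pullback.diagonal_fst, Category.comp_id]
      · rw [Category.assoc, Category.assoc, pullback.lift_snd, pullback.diagonal_snd, Category.comp_id, hfst]
    rw [← Scheme.Hom.comp_apply, ← Scheme.Hom.comp_apply, this]
  let V0 : S.Opens := ⟨(H.hom '' (O : Set H.left)ᶜ)ᶜ, (H.hom.isClosedMap _ O.isOpen.isClosed_compl).isOpen_compl⟩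
  let V : S.Opens := V0 ⊓ S.basicOpen (n : Γ(S, ⊤))
  have hne : ∀ s : S, s ∈ S.basicOpen (n : Γ(S, ⊤)) ↔ (n : S.residueField s) ≠ 0 := fun s => by
    rw [← Scheme.evaluation_ne_zero_iff_mem_basicOpen (X := S) (U := ⊤) s trivial, map_natCast]
  refine ⟨V, n, ⟨fun ⟨y, hy, he⟩ => hy (hfib y he), (hne _).mpr fun h0 => hnK ?_⟩, fun z hz => (hne z).mp hz.2, ?_⟩
  · have hw : w u₁ = f s' := rfl
    have : (n : S.residueField (w u₁)) = 0 := hw ▸ h0
    have h := congrArg (w.residueFieldMap u₁).hom this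
    rwa [map_natCast, map_zero] at h
  · have hr : Set.range (H.hom ⁻¹ᵁ V).ι ⊆ Set.range O.ι := by
      rintro _ ⟨z, rfl⟩
      rw [Scheme.Opens.range_ι]
      by_contra h
      exact z.2.1 ⟨_, h, rfl⟩
    rw [← Category.comp_id (pieceIncl H V), ← MonObj.comp_pow, ← MonObj.comp_one (pieceIncl H V)]
    ext : 1
    change (H.hom ⁻¹ᵁ V).ι ≫ a = (H.hom ⁻¹ᵁ V).ι ≫ b
    rw [← IsOpenImmersion.lift_fac O.ι _ hr, Category.assoc, Category.assoc, hO]

end Groth.Agent.H21EtPt
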