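import Mathlib

/-!
Sections of etale morphisms lift uniquely along surjective closed immersions (no finiteness on the immersion).
-/

set_option autoImplicit false
set_option linter.style.haveILetI false
set_option backward.isDefEq.respectTransparency false
universe u

open CategoryTheory CategoryTheory.Limits AlgebraicGeometry

noncomputable section

namespace Groth.Agent.H21EtPt

/-- The open around a section over a surjective closed subscheme is isomorphic to the base. -/
theorem exists_open_iso {E M M₀ : Scheme.{u}} (π : E ⟶ M) [Etale π] (i : M₀ ⟶ M) [IsClosedImmersion i]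
    [Surjective i] (s₀ : M₀ ⟶ E) (hs : s₀ ≫ π = i) :
    ∃ W : E.Opens, (∀ t, s₀ t ∈ W) ∧ IsIso (W.ι ≫ π) := by
  let σ : M₀ ⟶ pullback π i := pullback.lift s₀ (𝟙 _) (by rw [hs, Category.id_comp])
  have hσ : σ ≫ pullback.snd π i = 𝟙 _ := pullback.lift_snd _ _ _
  haveI : Mono σ := mono_of_mono_fac hσ
  haveI : Etale σ := by
    have h : Etale (σ ≫ pullback.snd π i) := by rw [hσ]; infer_instance
    exact MorphismProperty.of_postcomp (W := @Etale) (W' := @Etale) σ (pullback.snd π i) inferInstance h
  haveI : IsOpenImmersion σ := IsOpenImmersion.of_flat_of_mono σ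
  haveI : IsClosedImmersion (pullback.fst π i) := MorphismProperty.pullback_fst _ _ inferInstance
  haveI : Surjective (pullback.fst π i) := MorphismProperty.pullback_fst _ _ inferInstance
  let pr := pullback.fst π i
  have hinj : Function.Injective pr := pr.isClosedEmbedding.injective
  let W : E.Opens := ⟨pr '' Set.range σ, by
    rw [← isClosed_compl_iff, ← Set.image_compl_eq ⟨hinj, pr.surjective⟩]
    exact pr.isClosedEmbedding.isClosedMap _ σ.isOpenEmbedding.isOpen_range.isClosed_compl⟩
  have hs0 : ∀ t, s₀ t ∈ W := fun t =>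
    ⟨σ t, ⟨t, rfl⟩, by rw [← Scheme.Hom.comp_apply, pullback.lift_fst]⟩
  refine ⟨W, hs0, ?_⟩
  let π' := W.ι ≫ π
  let m : pullback π' i ⟶ pullback π i :=
    pullback.map π' i π i W.ι (𝟙 _) (𝟙 _) (Category.comp_id _) (by rw [Category.comp_id, Category.id_comp])
  have hm : Set.range m = Set.range σ := by
    erw [Scheme.Pullback.range_map]
    rw [Scheme.Opens.range_ι]
    ext y
    refine ⟨fun h => ?_, fun h => ⟨⟨y, h, rfl⟩, ⟨pullback.snd π i y, rfl⟩⟩⟩
    · obtain ⟨y₁, hy₁, e⟩ := h.1
      exact hinj e ▸ hy₁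
  have hmono : Mono (pullback.snd π' i) := by
    let e := IsOpenImmersion.isoOfRangeEq m σ hm
    have he : e.hom = pullback.snd π' i := by
      rw [← Category.comp_id e.hom, ← hσ, IsOpenImmersion.isoOfRangeEq_hom_fac_assoc, pullback.lift_snd,
        Category.comp_id]
    rw [← he]
    infer_instance
  haveI : Surjective π' := by
    refine ⟨fun t => ?_⟩
    obtain ⟨t₀, rfl⟩ := i.surjective t
    exact ⟨⟨s₀ t₀, hs0 t₀⟩, by rw [← hs, Scheme.Hom.comp_apply, Scheme.Hom.comp_apply]; rfl⟩
  haveI : Surjective (pullback.diagonal π') := by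
    let q := pullback.fst (pullback.fst π' π' ≫ π') i
    haveI : Surjective q := MorphismProperty.pullback_fst _ _ inferInstance
    have h : q ≫ pullback.fst π' π' = q ≫ pullback.snd π' π' := by
      have w1 : (q ≫ pullback.fst π' π') ≫ π' = pullback.snd (pullback.fst π' π' ≫ π') i ≫ i := by
        rw [Category.assoc]; exact pullback.condition
      have w2 : (q ≫ pullback.snd π' π') ≫ π' = pullback.snd (pullback.fst π' π' ≫ π') i ≫ i := by
        rw [Category.assoc, ← pullback.condition (f := π') (g := π')]; exact pullback.condition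
      have e : pullback.lift _ _ w1 = pullback.lift _ _ w2 := by
        rw [← cancel_mono (pullback.snd π' i), pullback.lift_snd, pullback.lift_snd]
      simpa only [pullback.lift_fst] using congrArg (· ≫ pullback.fst π' i) e
    have e : q = (q ≫ pullback.fst π' π') ≫ pullback.diagonal π' := by
      refine pullback.hom_ext ?_ ?_
      · rw [Category.assoc, pullback.diagonal_fst, Category.comp_id]
      · rw [Category.assoc, pullback.diagonal_snd, Category.comp_id, h]
    have : Surjective ((q ≫ pullback.fst π' π') ≫ pullback.diagonal π') := e ▸ inferInstance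
    exact Surjective.of_comp (q ≫ pullback.fst π' π') (pullback.diagonal π')
  haveI : IsIso (pullback.diagonal π') := by
    haveI : Epi (pullback.diagonal π').toLRSHom.base := (TopCat.epi_iff_surjective _).mpr (pullback.diagonal π').surjective
    exact IsOpenImmersion.isIso _
  haveI : Mono π' := (pullback.isIso_diagonal_iff π').mp inferInstance
  haveI : IsOpenImmersion π' := IsOpenImmersion.of_flat_of_mono π'
  haveI : Epi π'.toLRSHom.base := (TopCat.epi_iff_surjective _).mpr π'.surjective
  exact IsOpenImmersion.isIso π'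

/-- Sections of an etale morphism agreeing on a surjective closed subscheme are equal. -/
theorem section_ext {E M M₀ : Scheme.{u}} (π : E ⟶ M) [Etale π] (i : M₀ ⟶ M) [IsClosedImmersion i] [Surjective i]
    {s s' : M ⟶ E} (hs : s ≫ π = 𝟙 _) (hs' : s' ≫ π = 𝟙 _) (h : i ≫ s = i ≫ s') : s = s' := by
  obtain ⟨W, hW, hiso⟩ := exists_open_iso π i (i ≫ s) (by rw [Category.assoc, hs, Category.comp_id])
  have hmem : ∀ {v : M ⟶ E}, i ≫ v = i ≫ s → Set.range v ⊆ Set.range W.ι := fun {v} hv => by
    rintro _ ⟨t, rfl⟩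
    obtain ⟨t₀, rfl⟩ := i.surjective t
    rw [Scheme.Opens.range_ι, ← Scheme.Hom.comp_apply, hv]
    exact hW t₀
  rw [← IsOpenImmersion.lift_fac W.ι s (hmem rfl), ← IsOpenImmersion.lift_fac W.ι s' (hmem h.symm)]
  congr 1
  rw [← cancel_mono (W.ι ≫ π), ← Category.assoc, ← Category.assoc, IsOpenImmersion.lift_fac,
    IsOpenImmersion.lift_fac, hs, hs']

/-- Sections of an etale morphism lift along surjective closed immersions. -/
theorem exists_section {E M M₀ : Scheme.{u}} (π : E ⟶ M) [Etale π] (i : M₀ ⟶ M) [IsClosedImmersion i]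
    [Surjective i] (s₀ : M₀ ⟶ E) (hs : s₀ ≫ π = i) : ∃ s : M ⟶ E, s ≫ π = 𝟙 _ ∧ i ≫ s = s₀ := by
  obtain ⟨W, hW, hiso⟩ := exists_open_iso π i s₀ hs
  refine ⟨inv (W.ι ≫ π) ≫ W.ι, by rw [Category.assoc, IsIso.inv_hom_id], ?_⟩
  have hr : Set.range s₀ ⊆ Set.range W.ι := by
    rintro _ ⟨t, rfl⟩
    rw [Scheme.Opens.range_ι]
    exact hW t
  let l := IsOpenImmersion.lift W.ι s₀ hr
  have hl : i = l ≫ W.ι ≫ π := by rw [IsOpenImmersion.lift_fac_assoc, hs]
  rw [hl, Category.assoc, IsIso.hom_inv_id_assoc, IsOpenImmersion.lift_fac]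

end Groth.Agent.H21EtPt
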