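import Groth.Agent.H21EtPt.GeomPoint
import Groth.Agent.H21EtPt.NilLift
import Groth.Agent.S8395
import Groth.Agent.H21Diag.Points

/-!
Points killed by an invertible integer lift uniquely along surjective closed immersions near the centre.
-/

set_option autoImplicit false
set_option linter.style.haveILetI false
set_option linter.unusedSectionVars false
set_option backward.isDefEq.respectTransparency false
universe u

open CategoryTheory CategoryTheory.Limits MonoidalCategory CartesianMonoidalCategory MonObj GrpObj AlgebraicGeometry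

noncomputable section

namespace Groth.Agent.H21EtPt

variable {S : Scheme.{u}} {G : Over S} [GrpObj G]

/-- A point commuting with every point after every base change. -/
def Central {X : Over S} (x : X ⟶ G) : Prop :=
  ∀ (W : Over S) (w : W ⟶ X) (y : W ⟶ G), (w ≫ x) * y = y * (w ≫ x)

theorem Central.comp {X Y : Over S} {x : X ⟶ G} (h : Central x) (f : Y ⟶ X) : Central (f ≫ x) := fun W w y => by
  rw [← Category.assoc]
  exact h W _ y

theorem bcEquiv_symm_comp' {S' : Scheme.{u}} (f : S' ⟶ S) (Y : Over S) {T T' : Over S'} (w : T' ⟶ T)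
    (g : T ⟶ Red.bc f Y) :
    (H21Diag.bcEquiv f Y T').symm (w ≫ g) = (Over.map f).map w ≫ (H21Diag.bcEquiv f Y T).symm g :=
  (Over.mapPullbackAdj f).homEquiv_naturality_left_symm w g

variable (n : ℕ)

/-- The power map is etale near central points with values in fields where the exponent is invertible. -/
theorem exists_etale_pow [Flat G.hom] [LocallyOfFinitePresentation G.hom] {K : Type u} [Field K]
    (p : Spec (CommRingCat.of K) ⟶ S) (x : Over.mk p ⟶ G) (hc : Central x) (hn : (n : K) ≠ 0) :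
    ∃ U : G.left.Opens, x.left (IsLocalRing.closedPoint K) ∈ U ∧
      Etale (U.ι ≫ ((𝟙 G : G ⟶ G) ^ n).left) := by
  let f : G ⟶ G := (𝟙 G : G ⟶ G) ^ n
  let F := Over.pullback p
  let GK := Red.bc p G
  letI : GrpObj GK := Functor.grpObjObj
  haveI : LocallyOfFinitePresentation GK.hom := inferInstanceAs (LocallyOfFinitePresentation (pullback.snd G.hom p))
  let O : Over (Spec (CommRingCat.of K)) := 𝟙_ _
  let e : (Over.map p).obj O ⟶ Over.mk p := Over.homMk (𝟙 _) rfl
  let g : O ⟶ GK := H21Diag.bcEquiv p G O (e ≫ x)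
  have hg : ∀ (X : Over (Spec (CommRingCat.of K))) (y : X ⟶ GK), (toUnit X ≫ g) * y = y * (toUnit X ≫ g) := by
    intro X y
    apply (H21Diag.bcEquiv p G X).symm.injective
    rw [H21Diag.bcEquiv_symm_mul, H21Diag.bcEquiv_symm_mul, bcEquiv_symm_comp' p G (toUnit X) g,
      Equiv.symm_apply_apply, ← Category.assoc]
    exact hc _ _ _
  obtain ⟨U, hU, hUe⟩ := S8395.result K GK n hn g hg
  have hF : F.map f = (𝟙 GK : GK ⟶ GK) ^ n := by
    refine (map_pow (Functor.homMonoidHom F (X := G) (M := G)) (𝟙 G) n).trans ?_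
    show (F.map (𝟙 G)) ^ n = _
    rw [F.map_id]
  rw [← hF] at hUe
  have hp : IsPullback (pullback.fst G.hom p) (F.map f).left f.left (pullback.fst G.hom p) := by
    refine (IsPullback.of_bot (v₂₁ := pullback.snd G.hom p) (v₂₂ := G.hom) (h₃₁ := p) ?_ ?_
      (IsPullback.of_hasPullback G.hom p))
    · rw [show (F.map f).left ≫ pullback.snd G.hom p = pullback.snd G.hom p from Over.w (F.map f), Over.w f]
      exact IsPullback.of_hasPullback G.hom p
    · simp [F]
  haveI : LocallyOfFinitePresentation (f.left ≫ G.hom) := by rw [Over.w f]; infer_instance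
  haveI : Flat (f.left ≫ G.hom) := by rw [Over.w f]; infer_instance
  haveI : LocallyOfFinitePresentation f.left := H7Lim.locallyOfFinitePresentation_of_comp f.left G.hom
  have hz : g.left (IsLocalRing.closedPoint K) ∈ U := hU ⟨IsLocalRing.closedPoint K, rfl⟩
  obtain ⟨V, hV, hVe⟩ := exists_etale_nhd f.left G.hom p hp (IsPullback.of_hasPullback G.hom p)
    (g.left (IsLocalRing.closedPoint K)) ⟨U, hz, hUe⟩
  have hx : g.left ≫ pullback.fst G.hom p = x.left := by
    rw [H21Diag.bcEquiv_left_fst, Over.comp_left]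
    exact Category.id_comp _
  refine ⟨V, ?_, hVe⟩
  rw [← hx]
  exact hV

/-- The open subscheme of points near which the power map is etale. -/
def powLocus (G : Over S) [GrpObj G] (n : ℕ) : G.left.Opens :=
  sSup {U | Etale (U.ι ≫ ((𝟙 G : G ⟶ G) ^ n).left)}

instance etale_powLocus : Etale ((powLocus G n).ι ≫ ((𝟙 G : G ⟶ G) ^ n).left) := by
  let I := {U : G.left.Opens // Etale (U.ι ≫ ((𝟙 G : G ⟶ G) ^ n).left)}
  let f : I → (powLocus G n).toScheme.Opens := fun U => (powLocus G n).ι ⁻¹ᵁ U.1
  have hf : iSup f = ⊤ := by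
    refine top_le_iff.mp fun z _ => ?_
    obtain ⟨U, hU, hz⟩ := TopologicalSpace.Opens.mem_sSup.mp z.2
    exact TopologicalSpace.Opens.mem_iSup.mpr ⟨⟨U, hU⟩, hz⟩
  rw [IsZariskiLocalAtSource.iff_of_iSup_eq_top (P := @Etale) f hf]
  intro U
  have hr : Set.range ((f U).ι ≫ (powLocus G n).ι) ⊆ Set.range U.1.ι := by
    rintro _ ⟨z, rfl⟩
    rw [Scheme.Opens.range_ι]
    exact z.2
  rw [← Category.assoc, ← IsOpenImmersion.lift_fac U.1.ι _ hr, Category.assoc]
  haveI := U.2
  haveI : IsOpenImmersion (IsOpenImmersion.lift U.1.ι ((f U).ι ≫ (powLocus G n).ι) hr) := inferInstance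
  infer_instance

theorem mem_powLocus [Flat G.hom] [LocallyOfFinitePresentation G.hom] {X : Over S} {x : X ⟶ G} (hc : Central x)
    (t : X.left) (hn : (n : X.left.residueField t) ≠ 0) : x.left t ∈ powLocus G n := by
  let q := X.left.fromSpecResidueField t
  let j : Over.mk (q ≫ X.hom) ⟶ X := Over.homMk q rfl
  obtain ⟨U, hU, hUe⟩ := exists_etale_pow n (q ≫ X.hom) (j ≫ x) (hc.comp j) hn
  have hq : q (IsLocalRing.closedPoint _) = t := X.left.fromSpecResidueField_apply t _
  rw [Over.comp_left, Scheme.Hom.comp_apply] at hU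
  exact TopologicalSpace.Opens.mem_sSup.mpr ⟨U, hUe, hq ▸ hU⟩

section Lift

variable [Flat G.hom] [LocallyOfFinitePresentation G.hom] {X₀ X : Over S} (i : X₀ ⟶ X) [IsClosedImmersion i.left]
  [Surjective i.left]

include i in
theorem mem_powLocus_of_lift {x₀ : X₀ ⟶ G} (hc : Central x₀) (hn : ∀ t : X.left, (n : X.left.residueField t) ≠ 0)
    (t₀ : X₀.left) : x₀.left t₀ ∈ powLocus G n :=
  mem_powLocus n hc t₀ fun h => hn (i.left t₀) <| by
    rw [← map_natCast (i.left.residueFieldMap t₀).hom n] at h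
    exact (map_eq_zero _).mp h

/-- Two lifts of a central point killed by the same invertible exponent agree. -/
theorem lift_ext {a b : X ⟶ G} (hn : ∀ t : X.left, (n : X.left.residueField t) ≠ 0) (ha : a ^ n = 1)
    (hb : b ^ n = 1) (hc : Central (i ≫ a)) (h : i ≫ a = i ≫ b) : a = b := by
  let W := powLocus G n
  have hr : ∀ {c : X ⟶ G}, i ≫ c = i ≫ a → Set.range c.left ⊆ Set.range W.ι := fun {c} hca => by
    rintro _ ⟨t, rfl⟩
    obtain ⟨t₀, rfl⟩ := i.left.surjective t
    rw [Scheme.Opens.range_ι, ← Scheme.Hom.comp_apply, ← Over.comp_left, hca]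
    exact mem_powLocus_of_lift n i hc hn t₀
  let π := pullback.snd (W.ι ≫ ((𝟙 G : G ⟶ G) ^ n).left) (1 : X ⟶ G).left
  have hlift : ∀ (c : X ⟶ G) (hca : i ≫ c = i ≫ a), c ^ n = 1 →
      (IsOpenImmersion.lift W.ι c.left (hr hca)) ≫ W.ι ≫ ((𝟙 G : G ⟶ G) ^ n).left =
        𝟙 X.left ≫ (1 : X ⟶ G).left := fun c hca hcn => by
    rw [IsOpenImmersion.lift_fac_assoc, Category.id_comp, ← Over.comp_left, MonObj.comp_pow, Category.comp_id, hcn]
  have key : pullback.lift _ _ (hlift a rfl ha) = pullback.lift _ _ (hlift b h.symm hb) := by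
    refine section_ext π i.left (pullback.lift_snd _ _ _) (pullback.lift_snd _ _ _) ?_
    refine pullback.hom_ext ?_ (by simp only [Category.assoc, pullback.lift_snd])
    rw [Category.assoc, Category.assoc, pullback.lift_fst, pullback.lift_fst, ← cancel_mono W.ι, Category.assoc,
      Category.assoc, IsOpenImmersion.lift_fac, IsOpenImmersion.lift_fac, ← Over.comp_left, ← Over.comp_left, h]
  have := congrArg (· ≫ pullback.fst _ _ ≫ W.ι) key
  simp only [pullback.lift_fst_assoc, IsOpenImmersion.lift_fac] at this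
  exact Over.OverMorphism.ext this

/-- A central point killed by an invertible exponent lifts to a point killed by it. -/
theorem exists_lift {x₀ : X₀ ⟶ G} (hn : ∀ t : X.left, (n : X.left.residueField t) ≠ 0) (hc : Central x₀)
    (hx : x₀ ^ n = 1) : ∃ x : X ⟶ G, x ^ n = 1 ∧ i ≫ x = x₀ := by
  let W := powLocus G n
  let p := W.ι ≫ ((𝟙 G : G ⟶ G) ^ n).left
  have hr : Set.range x₀.left ⊆ Set.range W.ι := by
    rintro _ ⟨t, rfl⟩
    rw [Scheme.Opens.range_ι]
    exact mem_powLocus_of_lift n i hc hn t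
  have hs : IsOpenImmersion.lift W.ι x₀.left hr ≫ p = i.left ≫ (1 : X ⟶ G).left := by
    rw [IsOpenImmersion.lift_fac_assoc, ← Over.comp_left, ← Over.comp_left, MonObj.comp_pow, Category.comp_id, hx,
      MonObj.comp_one]
  obtain ⟨s, hs1, hs2⟩ := exists_section (pullback.snd p (1 : X ⟶ G).left) i.left (pullback.lift _ _ hs)
    (pullback.lift_snd _ _ _)
  have hcond : s ≫ pullback.fst p (1 : X ⟶ G).left ≫ p = (1 : X ⟶ G).left := by
    rw [pullback.condition, ← Category.assoc, hs1, Category.id_comp]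
  have hw : (s ≫ pullback.fst p (1 : X ⟶ G).left ≫ W.ι) ≫ G.hom = X.hom := by
    refine Eq.trans ?_ (Over.w (1 : X ⟶ G))
    conv_rhs => rw [← hcond]
    simp only [p, Category.assoc, Over.w ((𝟙 G : G ⟶ G) ^ n)]
  refine ⟨Over.homMk _ hw, ?_, ?_⟩
  · rw [← Category.comp_id (Over.homMk (U := X) (V := G) _ hw), ← MonObj.comp_pow]
    ext : 1
    rw [Over.comp_left]
    simpa [p] using hcond
  · ext : 1
    change i.left ≫ s ≫ pullback.fst p (1 : X ⟶ G).left ≫ W.ι = _
    rw [← Category.assoc, hs2, pullback.lift_fst_assoc, IsOpenImmersion.lift_fac]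

end Lift

end Groth.Agent.H21EtPt
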